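import Mathlib
import Cfsg.Agent.Helper19.Nilpotent
import Cfsg.Agent.Helper23.OddPGroup

/-!
Helper library (helper15): a finite `p`-group with a unique subgroup of order `p` is cyclic or
(for `p = 2`) generalized quaternion.
-/

set_option autoImplicit false

namespace Cfsg.Agent.Helper15

theorem odd_coprime_two_pow {c : ℤ} (hc : Odd c) (n : ℕ) : IsCoprime c ((2 : ℤ) ^ n) := by
  apply IsCoprime.pow_right
  obtain ⟨d, rfl⟩ := hc
  exact ⟨1, -d, by ring⟩

/-- In `ℤ / 2 ^ n`, of two elements `s`, `t` either `t` is a multiple of `s` or `s` is a multiple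
of `2 t`. -/
theorem chain_aux : ∀ (n : ℕ) (s t : ℤ),
    (∃ m : ℤ, (2 : ℤ) ^ n ∣ t - s * m) ∨ (∃ j : ℤ, (2 : ℤ) ^ n ∣ s - 2 * t * j) := by
  intro n
  induction n with
  | zero => intro s t; left; exact ⟨0, by simp⟩
  | succ n ih =>
    intro s t
    rcases Int.even_or_odd s with hs | hs
    · rcases Int.even_or_odd t with ht | ht
      · obtain ⟨s', rfl⟩ := hs
        obtain ⟨t', rfl⟩ := ht
        rcases ih s' t' with ⟨m, hm⟩ | ⟨j, hj⟩
        · left; refine ⟨m, ?_⟩
          have h1 : t' + t' - (s' + s') * m = 2 * (t' - s' * m) := by ring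
          rw [h1, pow_succ, mul_comm ((2 : ℤ) ^ n) 2]; exact mul_dvd_mul_left 2 hm
        · right; refine ⟨j, ?_⟩
          have h1 : s' + s' - 2 * (t' + t') * j = 2 * (s' - 2 * t' * j) := by ring
          rw [h1, pow_succ, mul_comm ((2 : ℤ) ^ n) 2]; exact mul_dvd_mul_left 2 hj
      · right
        obtain ⟨s', rfl⟩ := hs
        obtain ⟨α, β, hαβ⟩ := odd_coprime_two_pow ht n
        refine ⟨s' * α, ?_⟩
        have h1 : s' + s' - 2 * t * (s' * α) = 2 * (s' * β * 2 ^ n) := by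
          linear_combination (-2 * s') * hαβ
        rw [h1, pow_succ, mul_comm ((2 : ℤ) ^ n) 2]
        exact mul_dvd_mul_left 2 (Dvd.intro_left _ rfl)
    · left
      obtain ⟨α, β, hαβ⟩ := odd_coprime_two_pow hs (n + 1)
      refine ⟨t * α, ?_⟩
      have h1 : t - s * (t * α) = t * β * 2 ^ (n + 1) := by
        linear_combination (-t) * hαβ
      rw [h1]; exact Dvd.intro_left _ rfl

/-- If `g` normalizes the cyclic 2-group `⟨c⟩`, does not centralize it, `g² ∈ ⟨c⟩` and no element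
of the coset `⟨c⟩ g` squares to `1`, then `g` inverts `c`. -/
theorem inverts_of_sq_mem {G : Type*} [Group G] (c g : G) (n : ℕ) (hc : orderOf c = 2 ^ n)
    (hnorm : g * c * g⁻¹ ∈ Subgroup.zpowers c) (hsq : g ^ 2 ∈ Subgroup.zpowers c)
    (hnc : g * c * g⁻¹ ≠ c) (hinv : ∀ x ∈ Subgroup.zpowers c, (x * g) ^ 2 ≠ 1) :
    g * c * g⁻¹ = c⁻¹ := by
  obtain ⟨u, hu⟩ := Subgroup.mem_zpowers_iff.mp hnorm
  obtain ⟨k, hk⟩ := Subgroup.mem_zpowers_iff.mp hsq
  have hconj : ∀ i : ℤ, g * c ^ i * g⁻¹ = c ^ (u * i) := by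
    intro i
    rw [zpow_mul, hu, conj_zpow]
  have hcast : ((2 ^ n : ℕ) : ℤ) = (2 : ℤ) ^ n := by norm_num
  have hord : ∀ i : ℤ, c ^ i = 1 ↔ ((2 : ℤ) ^ n) ∣ i := by
    intro i
    rw [← orderOf_dvd_iff_zpow_eq_one, hc, hcast]
  have hfix : c ^ (u * k) = c ^ k := by
    rw [← hconj, hk]; group
  have hfix' : ((2 : ℤ) ^ n) ∣ u * k - k := by
    rw [← hord, zpow_sub, hfix, mul_inv_cancel]
  have hsqr : ∀ i : ℤ, (c ^ i * g) ^ 2 = c ^ (i + u * i + k) := by
    intro i
    have h1 : (c ^ i * g) ^ 2 = c ^ i * (g * c ^ i * g⁻¹) * g ^ 2 := by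
      rw [pow_two, pow_two]; group
    rw [h1, hconj, ← hk, ← zpow_add, ← zpow_add]
  have hne : ∀ i : ℤ, ¬ ((2 : ℤ) ^ n) ∣ i + u * i + k := by
    intro i hi
    exact hinv (c ^ i) (Subgroup.zpow_mem_zpowers c i) (by rw [hsqr, hord]; exact hi)
  have hgoal : ((2 : ℤ) ^ n) ∣ 1 + u := by
    rcases chain_aux n (1 + u) k with ⟨m, hm⟩ | ⟨j, hj⟩
    · exfalso
      apply hne (-m)
      have h1 : -m + u * -m + k = k - (1 + u) * m := by ring
      rw [h1]; exact hm
    · rcases Int.even_or_odd k with hk2 | hk2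
      · have h1 : ((2 : ℤ) ^ n) ∣ (1 + u) * (1 - k * j) := by
          have h2 : (1 + u) * (1 - k * j) = (1 + u - 2 * k * j) - j * (u * k - k) := by ring
          rw [h2]; exact dvd_sub hj (Dvd.dvd.mul_left hfix' j)
        have hodd : Odd (1 - k * j) := by
          obtain ⟨k', rfl⟩ := hk2
          exact ⟨-(k' * j), by ring⟩
        exact (odd_coprime_two_pow hodd n).symm.dvd_of_dvd_mul_right h1
      · exfalso
        apply hnc
        have h1 : ((2 : ℤ) ^ n) ∣ k * (u - 1) := by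
          have h2 : k * (u - 1) = u * k - k := by ring
          rw [h2]; exact hfix'
        have h2 : ((2 : ℤ) ^ n) ∣ u - 1 := (odd_coprime_two_pow hk2 n).symm.dvd_of_dvd_mul_left h1
        rw [← hu]
        have h3 : c ^ (u - 1) = 1 := (hord _).mpr h2
        rw [zpow_sub, zpow_one] at h3
        exact mul_inv_eq_one.mp h3
  rw [← hu]
  have h3 : c ^ (1 + u) = 1 := (hord _).mpr hgoal
  rw [zpow_add, zpow_one] at h3
  exact eq_inv_of_mul_eq_one_right h3

/-- The map from the generalized quaternion group of order `4m` given by `a ↦ c`, `x ↦ g`. -/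
def quatMap {G : Type*} [Group G] (c g : G) (m : ℕ) : QuaternionGroup m → G
  | .a i => c ^ i.val
  | .xa i => g * c ^ i.val

/-- Recognition of the generalized quaternion group: `c` of order `2m` generating `A`, `g ∉ A`
inverting `c` with `g² = c^m`, and `G = A ∪ gA`. -/
theorem quat_iso {G : Type*} [Group G] (A : Subgroup G) (c g : G) (m : ℕ) (hm : 0 < m)
    (hord : orderOf c = 2 * m) (hcA : c ∈ A) (hAc : ∀ x ∈ A, x ∈ Subgroup.zpowers c)
    (hgA : g ∉ A) (hinv : g * c * g⁻¹ = c⁻¹) (hsq : g ^ 2 = c ^ m)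
    (hcos : ∀ x, x ∉ A → g⁻¹ * x ∈ A) :
    Nonempty (G ≃* QuaternionGroup m) := by
  haveI : NeZero (2 * m) := ⟨by omega⟩
  have pw_add : ∀ i j : ZMod (2 * m), c ^ (i + j).val = c ^ i.val * c ^ j.val := by
    intro i j
    rw [← pow_add, pow_eq_pow_iff_modEq, hord, ZMod.val_add]
    exact Nat.mod_modEq _ _
  have pw_zero : c ^ (0 : ZMod (2 * m)).val = 1 := by rw [ZMod.val_zero, pow_zero]
  have pw_neg : ∀ i : ZMod (2 * m), c ^ (-i).val = (c ^ i.val)⁻¹ := by
    intro i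
    apply eq_inv_of_mul_eq_one_left
    rw [← pw_add, neg_add_cancel, pw_zero]
  have pw_sub : ∀ i j : ZMod (2 * m), c ^ (j - i).val = (c ^ i.val)⁻¹ * c ^ j.val := by
    intro i j
    rw [sub_eq_neg_add, pw_add, pw_neg]
  have pw_m : c ^ ((m : ℕ) : ZMod (2 * m)).val = c ^ m := by
    rw [ZMod.val_natCast, Nat.mod_eq_of_lt (by omega)]
  have hswap : ∀ k : ℕ, c ^ k * g = g * (c ^ k)⁻¹ := by
    intro k
    have h1 : g * c ^ k * g⁻¹ = (c ^ k)⁻¹ := by rw [← conj_pow, hinv, inv_pow]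
    have h2 : g * (c ^ k)⁻¹ * g⁻¹ = c ^ k := by rw [← conj_inv, h1, inv_inv]
    calc c ^ k * g = (g * (c ^ k)⁻¹ * g⁻¹) * g := by rw [h2]
      _ = g * (c ^ k)⁻¹ := by group
  have hmul : ∀ x y : QuaternionGroup m,
      quatMap c g m (x * y) = quatMap c g m x * quatMap c g m y := by
    intro x y
    rcases x with i | i <;> rcases y with j | j
    · rw [QuaternionGroup.a_mul_a]
      show c ^ (i + j).val = c ^ i.val * c ^ j.val
      exact pw_add i j
    · rw [QuaternionGroup.a_mul_xa]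
      show g * c ^ (j - i).val = c ^ i.val * (g * c ^ j.val)
      rw [pw_sub, ← mul_assoc (c ^ i.val), hswap, mul_assoc]
    · rw [QuaternionGroup.xa_mul_a]
      show g * c ^ (i + j).val = g * c ^ i.val * c ^ j.val
      rw [pw_add, mul_assoc]
    · rw [QuaternionGroup.xa_mul_xa]
      show c ^ ((m : ZMod (2 * m)) + j - i).val = g * c ^ i.val * (g * c ^ j.val)
      rw [pw_sub, pw_add, pw_m]
      have h1 : g * c ^ i.val * (g * c ^ j.val) = g * (c ^ i.val * g) * c ^ j.val := by group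
      have h2 : g * (g * (c ^ i.val)⁻¹) * c ^ j.val = g ^ 2 * (c ^ i.val)⁻¹ * c ^ j.val := by
        rw [pow_two]; group
      rw [h1, hswap, h2, hsq]
      have hcomm : Commute (c ^ i.val)⁻¹ (c ^ m) := ((Commute.refl c).pow_pow _ _).inv_left
      rw [← mul_assoc, hcomm.eq]
  have hinj : Function.Injective (MonoidHom.mk' (quatMap c g m) hmul) := by
    rw [injective_iff_map_eq_one]
    intro x hx
    have hx' : quatMap c g m x = 1 := hx
    rcases x with i | i
    · have h1 : c ^ i.val = 1 := hx'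
      have h2 : i.val = 0 := by
        have hdvd := orderOf_dvd_iff_pow_eq_one.mpr h1
        rw [hord] at hdvd
        exact Nat.eq_zero_of_dvd_of_lt hdvd (ZMod.val_lt i)
      rw [(ZMod.val_eq_zero i).mp h2]; rfl
    · exfalso
      have h1 : g * c ^ i.val = 1 := hx'
      apply hgA
      have h2 : g = (c ^ i.val)⁻¹ := eq_inv_of_mul_eq_one_left h1
      rw [h2]; exact A.inv_mem (A.pow_mem hcA _)
  have hsurj : Function.Surjective (MonoidHom.mk' (quatMap c g m) hmul) := by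
    have hA : ∀ x ∈ A, ∃ i : ZMod (2 * m), c ^ i.val = x := by
      intro x hx
      obtain ⟨k, hk⟩ := Subgroup.mem_zpowers_iff.mp (hAc x hx)
      refine ⟨(k : ZMod (2 * m)), ?_⟩
      rw [← hk, ← zpow_natCast, ZMod.val_intCast]
      have h1 := zpow_mod_orderOf c k
      rw [hord] at h1
      exact h1
    intro x
    by_cases hx : x ∈ A
    · obtain ⟨i, hi⟩ := hA x hx
      exact ⟨QuaternionGroup.a i, hi⟩
    · obtain ⟨i, hi⟩ := hA _ (hcos x hx)
      refine ⟨QuaternionGroup.xa i, ?_⟩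
      show g * c ^ i.val = x
      rw [hi]; group
  exact ⟨(MulEquiv.ofBijective (MonoidHom.mk' (quatMap c g m) hmul) ⟨hinj, hsurj⟩).symm⟩

/-- The uniqueness of the subgroup of order `p` passes to subgroups. -/
theorem unique_sub {G : Type*} [Group G] {p : ℕ}
    (huniq : ∀ H K : Subgroup G, Nat.card H = p → Nat.card K = p → H = K) (A : Subgroup G) :
    ∀ H K : Subgroup ↥A, Nat.card H = p → Nat.card K = p → H = K := by
  intro H K hH hK
  have h := huniq (H.map A.subtype) (K.map A.subtype)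
    (by rw [Subgroup.card_map_of_injective A.subtype_injective]; exact hH)
    (by rw [Subgroup.card_map_of_injective A.subtype_injective]; exact hK)
  exact Subgroup.map_injective A.subtype_injective h

/-- A finite abelian `p`-group with a unique subgroup of order `p` is cyclic. -/
theorem isCyclic_of_comm_of_unique {A : Type*} [Group A] [Finite A] {p : ℕ} [Fact p.Prime]
    (hA : IsPGroup p A) (hcomm : ∀ a b : A, a * b = b * a)
    (huniq : ∀ H K : Subgroup A, Nat.card H = p → Nat.card K = p → H = K) : IsCyclic A := by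
  letI : CommGroup A := { ‹Group A› with mul_comm := hcomm }
  by_contra hnc
  obtain ⟨z, x, hz1, hzp, hxp, hxn⟩ := Cfsg.Agent.Helper23.exists_rank_two_pgroup_comm hA hnc
  have hx1 : x ≠ 1 := fun h => hxn (h ▸ Subgroup.one_mem _)
  have hzo : orderOf z = p := orderOf_eq_prime hzp hz1
  have hxo : orderOf x = p := orderOf_eq_prime hxp hx1
  have h := huniq (Subgroup.zpowers z) (Subgroup.zpowers x) (by rw [Nat.card_zpowers, hzo])
    (by rw [Nat.card_zpowers, hxo])
  exact hxn (h ▸ Subgroup.mem_zpowers x)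

/-- A finite `p`-group, `p` odd, with a unique subgroup of order `p` is cyclic. -/
theorem isCyclic_of_unique_odd {G : Type*} [Group G] [Finite G] {p : ℕ} [Fact p.Prime]
    (hp2 : p ≠ 2) (hG : IsPGroup p G)
    (huniq : ∀ H K : Subgroup G, Nat.card H = p → Nat.card K = p → H = K) : IsCyclic G := by
  apply Cfsg.Agent.Helper23.isCyclic_of_forall_elementary_card_le hp2 hG
  intro E hEc hEp
  have hcyc : IsCyclic ↥E := isCyclic_of_comm_of_unique (hG.to_subgroup E)
    (fun a b => hEc.is_comm.comm a b) (unique_sub huniq E)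
  obtain ⟨e, he⟩ := hcyc.exists_generator
  have h1 : orderOf e = Nat.card E := orderOf_eq_card_of_forall_mem_zpowers he
  have h2 : e ^ p = 1 := Subtype.ext (by rw [Subgroup.coe_pow]; exact hEp e e.2)
  rw [← h1]
  exact Nat.le_of_dvd (Fact.out : p.Prime).pos (orderOf_dvd_of_pow_eq_one h2)

/-- A finite 2-group with a unique subgroup of order 2 is cyclic or generalized quaternion. -/
theorem quaternion_of_unique_involution {G : Type*} [Group G] [Finite G] (hG : IsPGroup 2 G)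
    (huniq : ∀ H K : Subgroup G, Nat.card H = 2 → Nat.card K = 2 → H = K) :
    IsCyclic G ∨ ∃ n : ℕ, Nonempty (G ≃* QuaternionGroup (2 ^ n)) := by
  classical
  haveI : Group.IsNilpotent G := hG.isNilpotent
  obtain ⟨A, -, hAn, hAc, hCA⟩ :=
    Cfsg.Agent.Helper19.exists_normal_abelian_self_centralizing (⊤ : Subgroup G)
  have hCA' : Subgroup.centralizer (A : Set G) ≤ A := fun x hx =>
    hCA (Subgroup.mem_inf.mpr ⟨Subgroup.mem_top x, hx⟩)
  have hAcyc : IsCyclic ↥A := isCyclic_of_comm_of_unique (hG.to_subgroup A)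
    (fun a b => hAc.is_comm.comm a b) (unique_sub huniq A)
  by_cases hAtop : A = ⊤
  · left
    subst hAtop
    exact isCyclic_of_surjective (Subgroup.topEquiv : (⊤ : Subgroup G) ≃* G)
      Subgroup.topEquiv.surjective
  right
  obtain ⟨c, hcA, hAc'⟩ : ∃ c : G, c ∈ A ∧ ∀ x ∈ A, x ∈ Subgroup.zpowers c := by
    obtain ⟨c', hc'⟩ := hAcyc.exists_generator
    refine ⟨(c' : G), c'.2, ?_⟩
    intro x hx
    obtain ⟨k, hk⟩ := Subgroup.mem_zpowers_iff.mp (hc' ⟨x, hx⟩)
    exact Subgroup.mem_zpowers_iff.mpr ⟨k, by rw [← Subgroup.coe_zpow, hk]⟩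
  have hzpA : Subgroup.zpowers c ≤ A := (Subgroup.zpowers_le).mpr hcA
  obtain ⟨n, hn⟩ := (IsPGroup.iff_orderOf.mp hG) c
  have hcast : ((2 ^ n : ℕ) : ℤ) = (2 : ℤ) ^ n := by norm_num
  have hAne : A ≠ ⊥ := by
    intro h
    apply hAtop
    rw [eq_top_iff]
    intro x _
    apply hCA'
    rw [h, Subgroup.mem_centralizer_iff]
    intro y hy
    rw [SetLike.mem_coe, Subgroup.mem_bot] at hy
    rw [hy, one_mul, mul_one]
  -- the involution of `A`
  obtain ⟨z, hzA, hzo⟩ : ∃ z : G, z ∈ A ∧ orderOf z = 2 := by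
    have h2 : 2 ∣ Nat.card A := by
      obtain ⟨k, hk⟩ := IsPGroup.iff_card.mp (hG.to_subgroup A)
      have hk0 : k ≠ 0 := by
        rintro rfl
        rw [pow_zero] at hk
        exact hAne (Subgroup.eq_bot_of_card_eq A hk)
      rw [hk]; exact dvd_pow_self 2 hk0
    obtain ⟨z', hz'⟩ := exists_prime_orderOf_dvd_card' 2 h2
    exact ⟨(z' : G), z'.2, by rw [Subgroup.orderOf_coe]; exact hz'⟩
  have hU : ∀ s t : G, orderOf s = 2 → orderOf t = 2 → s = t := by
    intro s t hs ht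
    have h := huniq (Subgroup.zpowers s) (Subgroup.zpowers t) (by rw [Nat.card_zpowers, hs])
      (by rw [Nat.card_zpowers, ht])
    have hs' : s ∈ Subgroup.zpowers t := h ▸ Subgroup.mem_zpowers s
    obtain ⟨k, hk⟩ := Subgroup.mem_zpowers_iff.mp hs'
    have h2 : t ^ (k % 2) = t ^ k := by
      have h3 := zpow_mod_orderOf t k
      rw [ht] at h3
      exact_mod_cast h3
    rcases Int.emod_two_eq_zero_or_one k with h0 | h1
    · rw [h0, zpow_zero] at h2
      exfalso
      rw [← hk, ← h2, orderOf_one] at hs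
      omega
    · rw [h1, zpow_one] at h2
      rw [← hk, ← h2]
  have hinvA : ∀ t : G, t ^ 2 = 1 → t ∈ A := by
    intro t ht
    by_cases ht1 : t = 1
    · rw [ht1]; exact A.one_mem
    · have hto : orderOf t = 2 := orderOf_eq_prime ht ht1
      rw [hU t z hto hzo]; exact hzA
  have hnormc : ∀ g : G, g * c * g⁻¹ ∈ Subgroup.zpowers c := fun g =>
    hAc' _ (hAn.conj_mem c hcA g)
  have hcent : ∀ g : G, g * c * g⁻¹ = c → g ∈ A := by
    intro g hg
    apply hCA'
    rw [Subgroup.mem_centralizer_iff]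
    intro y hy
    obtain ⟨k, rfl⟩ := Subgroup.mem_zpowers_iff.mp (hAc' y hy)
    have h1 : g * c ^ k * g⁻¹ = c ^ k := by rw [← conj_zpow, hg]
    calc c ^ k * g = (g * c ^ k * g⁻¹) * g := by rw [h1]
      _ = g * c ^ k := by group
  have hK : ∀ g : G, g ∉ A → g ^ 2 ∈ A → g * c * g⁻¹ = c⁻¹ := by
    intro g hgA hg2
    apply inverts_of_sq_mem c g n hn (hnormc g) (hAc' _ hg2) (fun h => hgA (hcent g h))
    intro x hx hxg
    have h1 : x * g ∈ A := hinvA _ hxg
    apply hgA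
    have h2 : g = x⁻¹ * (x * g) := by group
    rw [h2]; exact A.mul_mem (A.inv_mem (hzpA hx)) h1
  have key : ∀ h : G, h ^ 2 ∉ A → (h ^ 2) ^ 2 ∈ A → False := by
    intro h hA1 hA2
    have hinv := hK _ hA1 hA2
    obtain ⟨w, hw⟩ := Subgroup.mem_zpowers_iff.mp (hnormc h)
    have h3 : h ^ 2 * c * (h ^ 2)⁻¹ = c ^ (w * w) := by
      have e : h ^ 2 * c * (h ^ 2)⁻¹ = h * (h * c * h⁻¹) * h⁻¹ := by rw [pow_two]; group
      rw [e, ← hw, ← conj_zpow, ← hw, ← zpow_mul]
    rw [hinv] at h3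
    have h4 : c ^ (w * w + 1) = 1 := by rw [zpow_add, zpow_one, ← h3, inv_mul_cancel]
    have h5 : ((2 : ℤ) ^ n) ∣ w * w + 1 := by
      rw [← hcast, ← hn]; exact orderOf_dvd_iff_zpow_eq_one.mpr h4
    have hn2 : 2 ≤ n := by
      by_contra hlt
      have hc2 : c ^ 2 = 1 := by
        apply orderOf_dvd_iff_pow_eq_one.mp
        rw [hn]
        have h6 : n = 0 ∨ n = 1 := by omega
        rcases h6 with rfl | rfl <;> norm_num
      apply hA1
      apply hcent
      rw [hinv]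
      exact inv_eq_of_mul_eq_one_left (by rw [← pow_two]; exact hc2)
    have h6 : (4 : ℤ) ∣ w * w + 1 := by
      refine Dvd.dvd.trans ?_ h5
      obtain ⟨n', rfl⟩ : ∃ n', n = n' + 2 := ⟨n - 2, by omega⟩
      exact ⟨2 ^ n', by ring⟩
    obtain ⟨q, hq⟩ := h6
    rcases Int.even_or_odd w with ⟨d, rfl⟩ | ⟨d, rfl⟩
    · have h7 : (d + d) * (d + d) = 4 * (d * d) := by ring
      rw [h7] at hq
      obtain ⟨e, he⟩ : ∃ e, e = d * d := ⟨_, rfl⟩
      rw [← he] at hq; omega
    · have h7 : (2 * d + 1) * (2 * d + 1) = 4 * (d * d) + 4 * d + 1 := by ring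
      rw [h7] at hq
      obtain ⟨e, he⟩ : ∃ e, e = d * d := ⟨_, rfl⟩
      rw [← he] at hq; omega
  have hsqA : ∀ g : G, g ∉ A → g ^ 2 ∈ A := by
    intro g hgA
    by_contra hg2
    have hex : ∃ j : ℕ, g ^ 2 ^ j ∈ A := by
      obtain ⟨j, hj⟩ := hG g
      exact ⟨j, by rw [hj]; exact A.one_mem⟩
    have hm : g ^ 2 ^ (Nat.find hex) ∈ A := Nat.find_spec hex
    have hm2 : 2 ≤ Nat.find hex := by
      by_contra hlt
      have h6 : Nat.find hex = 0 ∨ Nat.find hex = 1 := by omega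
      rcases h6 with h0 | h1
      · rw [h0, pow_zero, pow_one] at hm; exact hgA hm
      · rw [h1, pow_one] at hm; exact hg2 hm
    obtain ⟨m', hm'⟩ : ∃ m', Nat.find hex = m' + 2 := ⟨Nat.find hex - 2, by omega⟩
    have hmin : g ^ 2 ^ (m' + 1) ∉ A := Nat.find_min hex (by omega)
    have e1 : (g ^ 2 ^ m') ^ 2 = g ^ 2 ^ (m' + 1) := by rw [← pow_mul, ← pow_succ]
    have e2 : ((g ^ 2 ^ m') ^ 2) ^ 2 = g ^ 2 ^ (m' + 2) := by rw [e1, ← pow_mul, ← pow_succ]
    exact key (g ^ 2 ^ m') (by rw [e1]; exact hmin) (by rw [e2, ← hm']; exact hm)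
  obtain ⟨g₀, hg₀⟩ : ∃ g₀ : G, g₀ ∉ A := by
    by_contra h
    push Not at h
    exact hAtop (eq_top_iff.mpr fun x _ => h x)
  have hinvc : ∀ g : G, g ∉ A → g * c * g⁻¹ = c⁻¹ := fun g hg => hK g hg (hsqA g hg)
  have hinvA' : ∀ g : G, g ∉ A → ∀ y ∈ A, g * y * g⁻¹ = y⁻¹ := by
    intro g hg y hy
    obtain ⟨k, rfl⟩ := Subgroup.mem_zpowers_iff.mp (hAc' y hy)
    rw [← conj_zpow, hinvc g hg, inv_zpow]
  have hcos : ∀ x, x ∉ A → g₀⁻¹ * x ∈ A := by
    intro x hx
    apply hCA'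
    rw [Subgroup.mem_centralizer_iff]
    intro y hy
    have h1 := hinvA' x hx y hy
    have h3 := hinvA' g₀ hg₀ y hy
    calc y * (g₀⁻¹ * x) = g₀⁻¹ * (g₀ * y * g₀⁻¹) * x := by group
      _ = g₀⁻¹ * (x * y * x⁻¹) * x := by rw [h3, h1]
      _ = g₀⁻¹ * x * y := by group
  have hn2 : 2 ≤ n := by
    by_contra hlt
    have hc2 : c ^ 2 = 1 := by
      apply orderOf_dvd_iff_pow_eq_one.mp
      rw [hn]
      have h6 : n = 0 ∨ n = 1 := by omega
      rcases h6 with rfl | rfl <;> norm_num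
    apply hg₀
    apply hcent
    rw [hinvc g₀ hg₀]
    exact inv_eq_of_mul_eq_one_left (by rw [← pow_two]; exact hc2)
  obtain ⟨n', rfl⟩ : ∃ n', n = n' + 1 := ⟨n - 1, by omega⟩
  have hsq : g₀ ^ 2 = c ^ 2 ^ n' := by
    have hg2A : g₀ ^ 2 ∈ A := hsqA g₀ hg₀
    have h1 := hinvA' g₀ hg₀ (g₀ ^ 2) hg2A
    have e : g₀ * g₀ ^ 2 * g₀⁻¹ = g₀ ^ 2 := by group
    rw [e] at h1
    have h2 : (g₀ ^ 2) ^ 2 = 1 := by rw [pow_two]; exact mul_eq_one_iff_eq_inv.mpr h1
    have hne : g₀ ^ 2 ≠ 1 := fun h => hg₀ (hinvA g₀ h)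
    have ho1 : orderOf (g₀ ^ 2) = 2 := orderOf_eq_prime h2 hne
    have h3 : (c ^ 2 ^ n') ^ 2 = 1 := by
      rw [← pow_mul, ← pow_succ, ← hn, pow_orderOf_eq_one]
    have h4 : c ^ 2 ^ n' ≠ 1 := by
      apply pow_ne_one_of_lt_orderOf (by positivity)
      rw [hn, pow_succ]
      have : 0 < 2 ^ n' := by positivity
      omega
    exact hU _ _ ho1 (orderOf_eq_prime h3 h4)
  exact ⟨n', quat_iso A c g₀ (2 ^ n') (by positivity) (by rw [hn, pow_succ, mul_comm]) hcA hAc'
    hg₀ (hinvc g₀ hg₀) hsq hcos⟩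

/-- A finite `p`-group with a unique subgroup of order `p` is cyclic or generalized quaternion. -/
theorem cyclic_or_quaternion_of_unique {G : Type*} [Group G] [Finite G] (p : ℕ) [Fact p.Prime]
    (hG : IsPGroup p G) (huniq : ∀ H K : Subgroup G, Nat.card H = p → Nat.card K = p → H = K) :
    IsCyclic G ∨ (p = 2 ∧ ∃ n : ℕ, Nonempty (G ≃* QuaternionGroup (2 ^ n))) := by
  by_cases hp2 : p = 2
  · subst hp2
    rcases quaternion_of_unique_involution hG huniq with h | h
    · exact Or.inl h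
    · exact Or.inr ⟨rfl, h⟩
  · exact Or.inl (isCyclic_of_unique_odd hp2 hG huniq)

end Cfsg.Agent.Helper15
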