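import Mathlib

/-!
Piece D2 for S3767 (helper9): for a nondegenerate alternating form `B` on a finite
`ZMod p`-module `V`, an isometry `x` for which invariant subspaces have invariant
complements inside invariant overspaces either stabilises a Lagrangian subspace
or stabilises a nonzero irreducible nondegenerate subspace.
-/

namespace Cfsg.Agent.Helper15.ESD2

variable {p : ℕ} [Fact p.Prime] {V : Type*} [AddCommGroup V] [Module (ZMod p) V] [Finite V]

theorem lagr_or_irr (B : V →ₗ[ZMod p] V →ₗ[ZMod p] ZMod p) (halt : ∀ v, B v v = 0)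
    (hnd : ∀ u, (∀ v, B u v = 0) → u = 0) (x : V ≃ₗ[ZMod p] V)
    (hx : ∀ u v, B (x u) (x v) = B u v)
    (hmaschke : ∀ L M : Submodule (ZMod p) V, L ≤ M → (∀ v ∈ L, x v ∈ L) →
      (∀ v ∈ M, x v ∈ M) → ∃ C : Submodule (ZMod p) V, C ≤ M ∧ (∀ v ∈ C, x v ∈ C) ∧
        L ⊓ C = ⊥ ∧ L ⊔ C = M) :
    (∃ L : Submodule (ZMod p) V, (∀ v ∈ L, x v ∈ L) ∧ Nat.card L * Nat.card L = Nat.card V) ∨
    (∃ W : Submodule (ZMod p) V, (∀ w ∈ W, x w ∈ W) ∧ W ≠ ⊥ ∧
      (∀ U : Submodule (ZMod p) V, U ≤ W → (∀ u ∈ U, x u ∈ U) → U = ⊥ ∨ U = W) ∧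
      (∀ u ∈ W, (∀ v ∈ W, B u v = 0) → u = 0)) := by
  classical
  have hskew : ∀ u v, B u v = - B v u := by
    intro u v
    have h := halt (u + v)
    simp only [map_add, LinearMap.add_apply, halt, zero_add, add_zero] at h
    exact eq_neg_of_add_eq_zero_right h
  have hfinS : Finite (Submodule (ZMod p) V) :=
    Finite.of_injective (fun s : Submodule (ZMod p) V => (s : Set V)) SetLike.coe_injective
  have hker : LinearMap.ker B = ⊥ := by
    rw [LinearMap.ker_eq_bot']
    intro u hu
    exact hnd u (fun v => by rw [hu, LinearMap.zero_apply])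
  have hdim : ∀ W M' : Submodule (ZMod p) V, LinearMap.BilinForm.orthogonal B W = M' →
      Module.finrank (ZMod p) W + Module.finrank (ZMod p) M' = Module.finrank (ZMod p) V := by
    intro W M' hM'
    subst hM'
    have h := LinearMap.BilinForm.finrank_add_finrank_orthogonal' (B := B) W
    rw [hker, inf_bot_eq] at h
    simpa using h
  have hsurj : ∀ N : Submodule (ZMod p) V, (∀ v ∈ N, x v ∈ N) →
      ∀ u ∈ N, ∃ u' ∈ N, x u' = u := by
    intro N hN u hu
    let f : N → N := fun v => ⟨x v.1, hN v.1 v.2⟩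
    have hinj : Function.Injective f := by
      intro a b hab
      have h1 : x a.1 = x b.1 := congrArg Subtype.val hab
      exact Subtype.ext (x.injective h1)
    obtain ⟨u', hu'⟩ := Finite.surjective_of_injective hinj ⟨u, hu⟩
    exact ⟨u'.1, u'.2, congrArg Subtype.val hu'⟩
  have hperp : ∀ N : Submodule (ZMod p) V, (∀ v ∈ N, x v ∈ N) →
      ∀ m ∈ LinearMap.BilinForm.orthogonal B N, x m ∈ LinearMap.BilinForm.orthogonal B N := by
    intro N hN m hm
    refine LinearMap.BilinForm.mem_orthogonal_iff.mpr (fun n hn => ?_)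
    obtain ⟨n', hn', rfl⟩ := hsurj N hN n hn
    rw [hx]
    exact LinearMap.BilinForm.mem_orthogonal_iff.mp hm n' hn'
  obtain ⟨L, ⟨hLinv, hLiso⟩, hLmax⟩ := Set.exists_max_image
    {N : Submodule (ZMod p) V | (∀ v ∈ N, x v ∈ N) ∧ (∀ u ∈ N, ∀ v ∈ N, B u v = 0)}
    (fun N => Module.finrank (ZMod p) N) (Set.toFinite _)
    ⟨⊥, by
      refine ⟨?_, ?_⟩
      · intro v hv
        rw [Submodule.mem_bot] at hv ⊢
        rw [hv, map_zero]
      · intro u hu v hv
        rw [Submodule.mem_bot] at hu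
        rw [hu, map_zero, LinearMap.zero_apply]⟩
  by_cases hML : LinearMap.BilinForm.orthogonal B L = L
  · left
    refine ⟨L, hLinv, ?_⟩
    have h1 := hdim L L hML
    rw [Module.natCard_eq_pow_finrank (K := ZMod p) (V := L),
      Module.natCard_eq_pow_finrank (K := ZMod p) (V := V), ← pow_add, h1]
  · right
    have hLM : L ≤ LinearMap.BilinForm.orthogonal B L := by
      intro m hm
      exact LinearMap.BilinForm.mem_orthogonal_iff.mpr (fun n hn => hLiso n hn m hm)
    obtain ⟨C, hCM, hCinv, hLC, hLC'⟩ :=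
      hmaschke L (LinearMap.BilinForm.orthogonal B L) hLM hLinv (hperp L hLinv)
    have hCne : C ≠ ⊥ := by
      rintro rfl
      rw [sup_bot_eq] at hLC'
      exact hML hLC'.symm
    obtain ⟨W, ⟨hWC, hWinv, hWne⟩, hWmin⟩ := Set.exists_min_image
      {N : Submodule (ZMod p) V | N ≤ C ∧ (∀ v ∈ N, x v ∈ N) ∧ N ≠ ⊥}
      (fun N => Module.finrank (ZMod p) N) (Set.toFinite _) ⟨C, le_refl C, hCinv, hCne⟩
    have hWirr : ∀ U : Submodule (ZMod p) V, U ≤ W → (∀ u ∈ U, x u ∈ U) →
        U = ⊥ ∨ U = W := by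
      intro U hUW hUinv
      by_cases hU : U = ⊥
      · exact Or.inl hU
      · right
        have h3 : Module.finrank (ZMod p) W ≤ Module.finrank (ZMod p) U :=
          hWmin U ⟨hUW.trans hWC, hUinv, hU⟩
        exact Submodule.eq_of_le_of_finrank_le hUW h3
    have hRinv : ∀ v ∈ W ⊓ LinearMap.BilinForm.orthogonal B W,
        x v ∈ W ⊓ LinearMap.BilinForm.orthogonal B W := by
      intro v hv
      exact Submodule.mem_inf.mpr ⟨hWinv v (Submodule.mem_inf.mp hv).1,
        hperp W hWinv v (Submodule.mem_inf.mp hv).2⟩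
    rcases hWirr (W ⊓ LinearMap.BilinForm.orthogonal B W) inf_le_left hRinv with hR | hR
    · refine ⟨W, hWinv, hWne, hWirr, ?_⟩
      intro u hu huv
      have hmem : u ∈ W ⊓ LinearMap.BilinForm.orthogonal B W := by
        refine Submodule.mem_inf.mpr
          ⟨hu, LinearMap.BilinForm.mem_orthogonal_iff.mpr (fun n hn => ?_)⟩
        rw [hskew, huv n hn, neg_zero]
      rw [hR] at hmem
      exact (Submodule.mem_bot (ZMod p)).mp hmem
    · exfalso
      have hWW : ∀ n ∈ W, ∀ m ∈ W, B n m = 0 := by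
        intro n hn m hm
        have hm' : m ∈ W ⊓ LinearMap.BilinForm.orthogonal B W := by
          rw [hR]
          exact hm
        exact LinearMap.BilinForm.mem_orthogonal_iff.mp (Submodule.mem_inf.mp hm').2 n hn
      have hLW : ∀ n ∈ L, ∀ m ∈ W, B n m = 0 := by
        intro n hn m hm
        exact LinearMap.BilinForm.mem_orthogonal_iff.mp (hCM (hWC hm)) n hn
      have hinv' : ∀ v ∈ L ⊔ W, x v ∈ L ⊔ W := by
        intro v hv
        obtain ⟨a, ha, b, hb, rfl⟩ := Submodule.mem_sup.mp hv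
        rw [map_add]
        exact Submodule.add_mem_sup (hLinv a ha) (hWinv b hb)
      have hiso' : ∀ u ∈ L ⊔ W, ∀ v ∈ L ⊔ W, B u v = 0 := by
        intro u hu v hv
        obtain ⟨a, ha, b, hb, rfl⟩ := Submodule.mem_sup.mp hu
        obtain ⟨c, hc, d, hd, rfl⟩ := Submodule.mem_sup.mp hv
        have e1 : B a c = 0 := hLiso a ha c hc
        have e2 : B a d = 0 := hLW a ha d hd
        have e3 : B b c = 0 := by rw [hskew, hLW c hc b hb, neg_zero]
        have e4 : B b d = 0 := hWW b hb d hd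
        simp only [map_add, LinearMap.add_apply, e1, e2, e3, e4, add_zero]
      have h2 : Module.finrank (ZMod p) ↥(L ⊔ W) ≤ Module.finrank (ZMod p) ↥L :=
        hLmax (L ⊔ W) ⟨hinv', hiso'⟩
      have hlt : L < L ⊔ W := by
        refine lt_of_le_of_ne le_sup_left ?_
        intro heq
        have hWL : W ≤ L := by
          have h5 : W ≤ L ⊔ W := le_sup_right
          rw [← heq] at h5
          exact h5
        apply hWne
        rw [eq_bot_iff, ← hLC]
        exact le_inf hWL hWC
      have h4 := Submodule.finrank_lt_finrank_of_lt hlt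
      omega

end Cfsg.Agent.Helper15.ESD2
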