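import Mathlib
import Cfsg.Prelude.Def_Transfer
import Cfsg.Agent.Helper14.CoprimeAut
import Cfsg.Agent.Helper23.OddPGroup
import Cfsg.Agent.Helper1.Frobenius

/-!
Helper library (helper15): normal `p`-complements from control of fusion of the elements of
order `p` (and `4` when `p = 2`), after Isaacs–Navarro.

* `aut_fix_of_fusion` : let `a` be an automorphism of `p'`-order stabilizing the subgroup `H` of
  the `p`-subgroup `S`; if `a x` is `S`-conjugate to `x` for every `x ∈ H` with `x ^ e = 1`
  (`e = p` for `p` odd, `e = 4` for `p = 2`), then `a` fixes `H` pointwise.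
* `npc_of_fusion_small` : if the Sylow `p`-subgroup `P` controls the `G`-fusion of its elements of
  order dividing `p` (dividing `4` when `p = 2`), then `G` has a normal `p`-complement.
-/

set_option autoImplicit false

namespace Cfsg.Agent.Helper15

open scoped commutatorElement

variable {G : Type*} [Group G]

/-- Coprime automorphisms and fusion of elements of small order. -/
theorem aut_fix_of_fusion [Finite G] {p : ℕ} [hp : Fact p.Prime] (e j : ℕ) (hej : e = p ^ j)
    (he : (p ≠ 2 ∧ e = p) ∨ (p = 2 ∧ e = 4))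
    (a : MulAut G) (k : ℕ) (hk : a ^ k = 1) (hkp : Nat.Coprime k p)
    (S : Subgroup G) (hS : IsPGroup p S) :
    ∀ n : ℕ, ∀ H : Subgroup G, Nat.card H = n → H ≤ S → (∀ h ∈ H, a h ∈ H) →
      (∀ x ∈ H, x ^ e = 1 → ∃ u ∈ S, a x = u * x * u⁻¹) → ∀ h ∈ H, a h = h := by
  intro n
  induction n using Nat.strong_induction_on with
  | _ n ih =>
    intro H hn hHS hinv hfus
    have hH : IsPGroup p H := hS.to_le hHS
    have IH : ∀ N : Subgroup G, N ≤ H → N ≠ H → (∀ h ∈ N, a h ∈ N) → ∀ h ∈ N, a h = h := by
      intro N hNH hne hNinv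
      have hlt : Nat.card N < n := by
        rw [← hn]
        by_contra hcon
        exact hne (Subgroup.eq_of_le_of_card_ge hNH (not_lt.mp hcon))
      exact ih _ hlt N rfl (hNH.trans hHS) hNinv (fun x hx => hfus x (hNH hx))
    have hpow : ∀ x ∈ H, ∃ e' : ℕ, x ^ p ^ e' = 1 := by
      intro x hx
      obtain ⟨e', he'⟩ := hH ⟨x, hx⟩
      exact ⟨e', by simpa using congrArg Subtype.val he'⟩
    obtain ⟨N₀, hN₀⟩ : ∃ N₀ : Subgroup G,
        N₀ = Subgroup.closure {c | ∃ h ∈ H, c = h⁻¹ * a h} := ⟨_, rfl⟩
    have hgen : ∀ h ∈ H, h⁻¹ * a h ∈ N₀ := by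
      intro h hh
      rw [hN₀]
      exact Subgroup.subset_closure ⟨h, hh, rfl⟩
    have hN₀H : N₀ ≤ H := by
      rw [hN₀, Subgroup.closure_le]
      rintro c ⟨h, hh, rfl⟩
      exact H.mul_mem (H.inv_mem hh) (hinv h hh)
    have hN₀inv : ∀ x ∈ N₀, a x ∈ N₀ := by
      have hle : N₀ ≤ N₀.comap a.toMonoidHom := by
        conv_lhs => rw [hN₀]
        rw [Subgroup.closure_le]
        rintro c ⟨h, hh, rfl⟩
        show a (h⁻¹ * a h) ∈ N₀
        rw [map_mul, map_inv]
        exact hgen (a h) (hinv h hh)
      exact fun x hx => hle hx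
    by_cases hcase : N₀ = H
    swap
    · have hfixN := IH N₀ hN₀H hcase hN₀inv
      intro h hh
      obtain ⟨e', he'⟩ := hpow _ (hN₀H (hgen h hh))
      exact Cfsg.Agent.Helper14.aut_fix_elem (p := p) a k hk hkp h (hfixN _ (hgen h hh)) e' he'
    · have hcent : ∀ N : Subgroup G, N ≤ H → N ≠ H → (∀ h ∈ N, a h ∈ N) →
          (∀ x ∈ H, ∀ y ∈ N, x * y * x⁻¹ ∈ N) → ∀ y ∈ N, ∀ x ∈ H, x * y = y * x := by
        intro N hNH hne hNinv hNnorm y hy
        have hfixN := IH N hNH hne hNinv
        have hle : H ≤ Subgroup.centralizer {y} := by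
          rw [← hcase, hN₀, Subgroup.closure_le]
          rintro c ⟨h, hh, rfl⟩
          rw [SetLike.mem_coe, Subgroup.mem_centralizer_iff]
          intro y' hy'
          rw [Set.mem_singleton_iff] at hy'
          rw [hy']
          have h1 : a (h * y * h⁻¹) = h * y * h⁻¹ := hfixN _ (hNnorm h hh y hy)
          rw [map_mul, map_mul, map_inv, hfixN y hy] at h1
          calc y * (h⁻¹ * a h) = h⁻¹ * (h * y * h⁻¹) * a h := by group
            _ = h⁻¹ * (a h * y * (a h)⁻¹) * a h := by rw [h1]
            _ = h⁻¹ * a h * y := by group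
        intro x hx
        have hxc := hle hx
        rw [Subgroup.mem_centralizer_iff] at hxc
        exact (hxc y rfl).symm
      intro h hh
      by_cases hbot : H = ⊥
      · rw [hbot, Subgroup.mem_bot] at hh
        rw [hh, map_one]
      have hDH : ⁅H, H⁆ ≤ H := by
        rw [Subgroup.commutator_le]
        intro x hx y hy
        rw [commutatorElement_def]
        exact H.mul_mem (H.mul_mem (H.mul_mem hx hy) (H.inv_mem hx)) (H.inv_mem hy)
      have hDne : ⁅H, H⁆ ≠ H := by
        intro heq
        have : Nontrivial ↥H := (Subgroup.nontrivial_iff_ne_bot H).mpr hbot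
        have : Group.IsNilpotent ↥H := hH.isNilpotent
        have h1 := Group.IsSolvable.commutator_lt_top_of_nontrivial ↥H
        have h2 := Cfsg.Agent.Helper14.map_subtype_commutator H
        rw [heq] at h2
        have h3 : commutator ↥H = ⊤ := by
          rw [eq_top_iff]
          intro z _
          have hz : (z : G) ∈ (commutator ↥H).map H.subtype := by rw [h2]; exact z.2
          obtain ⟨z', hz', hzz⟩ := hz
          have hzeq : z' = z := Subtype.ext (by simpa using hzz)
          rw [← hzeq]; exact hz'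
        exact h1.ne h3
      have hDinv : ∀ b : MulAut G, (∀ x ∈ H, b x ∈ H) → ∀ x ∈ ⁅H, H⁆, b x ∈ ⁅H, H⁆ := by
        intro b hb
        have hle : ⁅H, H⁆ ≤ (⁅H, H⁆ : Subgroup G).comap b.toMonoidHom := by
          rw [Subgroup.commutator_le]
          intro x hx y hy
          show b ⁅x, y⁆ ∈ ⁅H, H⁆
          rw [map_commutatorElement]
          exact Subgroup.commutator_mem_commutator (hb x hx) (hb y hy)
        exact fun x hx => hle hx
      have hconj : ∀ x ∈ H, ∀ y ∈ H, (MulAut.conj x) y ∈ H := by
        intro x hx y hy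
        rw [MulAut.conj_apply]
        exact H.mul_mem (H.mul_mem hx hy) (H.inv_mem hx)
      have hDc : ∀ y ∈ ⁅H, H⁆, ∀ x ∈ H, x * y = y * x := by
        refine hcent ⁅H, H⁆ hDH hDne (hDinv a hinv) ?_
        intro x hx y hy
        have h1 := hDinv (MulAut.conj x) (hconj x hx) y hy
        rwa [MulAut.conj_apply] at h1
      obtain ⟨E, hEH, hEne, hEmem⟩ := Cfsg.Agent.Helper14.exists_powSub H hH hbot
      have hEinv : ∀ b : MulAut G, (∀ x ∈ H, b x ∈ H) → ∀ x ∈ E, b x ∈ E := by
        intro b hb x hx
        obtain ⟨hxH, y, hy, hxy⟩ := (hEmem x).mp hx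
        refine (hEmem _).mpr ⟨hb x hxH, b y, hb y hy, ?_⟩
        have h1 := hDinv b hb _ hxy
        rwa [map_mul, map_inv, map_pow] at h1
      have hEc : ∀ y ∈ E, ∀ x ∈ H, x * y = y * x := by
        refine hcent E hEH hEne (hEinv a hinv) ?_
        intro x hx y hy
        have h1 := hEinv (MulAut.conj x) (hconj x hx) y hy
        rwa [MulAut.conj_apply] at h1
      have hEfix := IH E hEH hEne (hEinv a hinv)
      have hypE : ∀ y ∈ H, y ^ p ∈ E := by
        intro y hy
        exact (hEmem _).mpr ⟨H.pow_mem hy p, y, hy, by rw [inv_mul_cancel]; exact one_mem _⟩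
      have hpowmul : ∀ x ∈ H, ∀ y ∈ H, (x * y) ^ e = x ^ e * y ^ e := by
        intro x hx y hy
        have hz : y⁻¹ * x⁻¹ * y * x ∈ ⁅H, H⁆ := by
          have h1 := Subgroup.commutator_mem_commutator (H.inv_mem hy) (H.inv_mem hx)
          rwa [commutatorElement_def, inv_inv, inv_inv] at h1
        obtain ⟨z, hzdef⟩ : ∃ z, z = y⁻¹ * x⁻¹ * y * x := ⟨_, rfl⟩
        rw [← hzdef] at hz
        have hza : Commute z x := (hDc z hz x hx).symm
        have hzb : Commute z y := (hDc z hz y hy).symm
        have h1 : x⁻¹ * y * x = y * z := by rw [hzdef]; group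
        have h2 : (x⁻¹ * y * x) ^ p = y ^ p := by
          have h2' : x⁻¹ * y * x = x⁻¹ * y * x⁻¹⁻¹ := by rw [inv_inv]
          rw [h2', conj_pow, inv_inv]
          have hc := hEc (y ^ p) (hypE y hy) x hx
          rw [mul_assoc, ← hc, inv_mul_cancel_left]
        have h3 : (y * z) ^ p = y ^ p * z ^ p := (hzb.symm).mul_pow p
        have hzp : z ^ p = 1 := by
          have h4 : y ^ p * z ^ p = y ^ p * 1 := by rw [mul_one, ← h3, ← h1, h2]
          exact mul_left_cancel h4
        rcases he with ⟨hp2, hep⟩ | ⟨hp2, he4⟩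
        · rw [hep]
          exact Cfsg.Agent.Helper23.mul_pow_prime_of_central hp.out hp2
            (by rw [hzdef]; group) hza hzb hzp
        · rw [he4]
          rw [hp2] at hzp
          have hx2E : x ^ 2 ∈ E := by have := hypE x hx; rwa [hp2] at this
          have hy2E : y ^ 2 ∈ E := by have := hypE y hy; rwa [hp2] at this
          have hxy2 : (x * y) ^ 2 = x ^ 2 * y ^ 2 * z := by
            calc (x * y) ^ 2 = x * x * (x⁻¹ * y * x) * y := by rw [pow_two]; group
              _ = x * x * (y * z) * y := by rw [h1]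
              _ = x * x * (y * (y * z)) := by
                  rw [mul_assoc (x * x) (y * z) y, mul_assoc y z y, hzb.eq]
              _ = x ^ 2 * y ^ 2 * z := by rw [pow_two, pow_two]; simp only [mul_assoc]
          have hXY : Commute (x ^ 2) (y ^ 2) :=
            Commute.symm (hEc (x ^ 2) hx2E (y ^ 2) (H.pow_mem hy 2))
          have hzXY : Commute (x ^ 2 * y ^ 2) z :=
            ((hza.pow_right 2).mul_right (hzb.pow_right 2)).symm
          calc (x * y) ^ 4 = ((x * y) ^ 2) ^ 2 := by rw [← pow_mul]
            _ = (x ^ 2 * y ^ 2 * z) ^ 2 := by rw [hxy2]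
            _ = (x ^ 2 * y ^ 2) ^ 2 * z ^ 2 := hzXY.mul_pow 2
            _ = (x ^ 2) ^ 2 * (y ^ 2) ^ 2 := by rw [hzp, mul_one, hXY.mul_pow]
            _ = x ^ 4 * y ^ 4 := by rw [← pow_mul, ← pow_mul]
      have heE : ∀ y ∈ H, y ^ e ∈ E := by
        intro y hy
        rcases he with ⟨_, hep⟩ | ⟨hp2, he4⟩
        · rw [hep]; exact hypE y hy
        · rw [he4]
          have hy2E : y ^ 2 ∈ E := by have := hypE y hy; rwa [hp2] at this
          have e4 : y ^ 4 = (y ^ 2) ^ 2 := by rw [← pow_mul]
          rw [e4]; exact E.pow_mem hy2E 2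
      have hclaim : ∀ x ∈ H, x ^ e = 1 → a x = x := by
        obtain ⟨m, hm⟩ := (Subgroup.isNilpotent_iff_lowerCentralSeries S).mp hS.isNilpotent
        have hP : ∀ i : ℕ, i ≤ m → ∀ x ∈ H, x ∈ S.lowerCentralSeries (m - i) → x ^ e = 1 →
            a x = x := by
          intro i
          induction i with
          | zero =>
            intro _ x hx hxL _
            rw [Nat.sub_zero, hm, Subgroup.mem_bot] at hxL
            rw [hxL, map_one]
          | succ i ih' =>
            intro hi x hx hxL hxe
            obtain ⟨u, hu, hax⟩ := hfus x hx hxe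
            have hcH : x⁻¹ * a x ∈ H := H.mul_mem (H.inv_mem hx) (hinv x hx)
            have hcL : x⁻¹ * a x ∈ S.lowerCentralSeries (m - i) := by
              have e1 : m - i = (m - (i + 1)) + 1 := by omega
              rw [e1, Subgroup.lowerCentralSeries_succ]
              have e2 : x⁻¹ * a x = ⁅x⁻¹, u⁆ := by
                rw [hax, commutatorElement_def, inv_inv]; group
              rw [e2]
              exact Subgroup.commutator_mem_commutator (Subgroup.inv_mem _ hxL) hu
            have hce : (x⁻¹ * a x) ^ e = 1 := by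
              rw [hpowmul _ (H.inv_mem hx) _ (hinv x hx), ← map_pow, hxe, map_one, inv_pow, hxe,
                inv_one, one_mul]
            have hac := ih' (by omega) _ hcH hcL hce
            exact Cfsg.Agent.Helper14.aut_fix_elem (p := p) a k hk hkp x hac j
              (by rw [← hej]; exact hce)
        intro x hx hxe
        exact hP m le_rfl x hx
          (by rw [Nat.sub_self, Subgroup.lowerCentralSeries_zero]; exact hHS hx) hxe
      have hc1 : (h⁻¹ * a h) ^ e = 1 := by
        rw [hpowmul _ (H.inv_mem hh) _ (hinv h hh),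
          show (a h) ^ e = a (h ^ e) from (map_pow a h e).symm, hEfix _ (heE h hh), inv_pow,
          inv_mul_cancel]
      have hc2 : a (h⁻¹ * a h) = h⁻¹ * a h :=
        hclaim _ (H.mul_mem (H.inv_mem hh) (hinv h hh)) hc1
      exact Cfsg.Agent.Helper14.aut_fix_elem (p := p) a k hk hkp h hc2 j
        (by rw [← hej]; exact hc1)

/-- **Normal `p`-complements from fusion of small elements** (González-Sánchez, Isaacs–Navarro):
if the Sylow `p`-subgroup `P` controls the `G`-fusion of its elements of order dividing `p`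
(dividing `4` when `p = 2`), then `G` has a normal `p`-complement. -/
theorem npc_of_fusion_small {G : Type*} [Group G] [Finite G] {p : ℕ} [Fact p.Prime]
    (P : Sylow p G)
    (h : ∀ a ∈ (P : Subgroup G), (a ^ p = 1 ∨ (p = 2 ∧ a ^ 4 = 1)) → ∀ g : G,
      g * a * g⁻¹ ∈ (P : Subgroup G) → ∃ x ∈ (P : Subgroup G), g * a * g⁻¹ = x * a * x⁻¹) :
    Cfsg.HasNormalPComplement p G := by
  apply Cfsg.Agent.Helper1.npc_of_local
  apply Cfsg.Agent.Helper1.localP_of_sylow P
  intro Q hQP g hg hgo
  have hk : (MulAut.conj g) ^ orderOf g = 1 := by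
    rw [← map_pow, pow_orderOf_eq_one, map_one]
  have hinv : ∀ y ∈ Q, MulAut.conj g y ∈ Q := by
    intro y hy
    rw [MulAut.conj_apply]
    exact (Subgroup.mem_normalizer_iff.mp hg y).mp hy
  have key : ∀ y ∈ Q, MulAut.conj g y = y := by
    by_cases hp2 : p = 2
    · refine aut_fix_of_fusion 4 2 (by rw [hp2]; norm_num) (Or.inr ⟨hp2, rfl⟩) (MulAut.conj g)
        (orderOf g) hk hgo (P : Subgroup G) P.isPGroup' _ Q rfl hQP hinv ?_
      intro x hx hx4
      have hgx : g * x * g⁻¹ ∈ (P : Subgroup G) := by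
        have := hinv x hx
        rw [MulAut.conj_apply] at this
        exact hQP this
      obtain ⟨u, hu, hux⟩ := h x (hQP hx) (Or.inr ⟨hp2, hx4⟩) g hgx
      exact ⟨u, hu, by rw [MulAut.conj_apply]; exact hux⟩
    · refine aut_fix_of_fusion p 1 (pow_one p).symm (Or.inl ⟨hp2, rfl⟩) (MulAut.conj g)
        (orderOf g) hk hgo (P : Subgroup G) P.isPGroup' _ Q rfl hQP hinv ?_
      intro x hx hxp
      have hgx : g * x * g⁻¹ ∈ (P : Subgroup G) := by
        have := hinv x hx
        rw [MulAut.conj_apply] at this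
        exact hQP this
      obtain ⟨u, hu, hux⟩ := h x (hQP hx) (Or.inl hxp) g hgx
      exact ⟨u, hu, by rw [MulAut.conj_apply]; exact hux⟩
  rw [Subgroup.mem_centralizer_iff]
  intro y hy
  have h1 := key y hy
  rw [MulAut.conj_apply] at h1
  rw [show g * y = (g * y * g⁻¹) * g by group, h1]

end Cfsg.Agent.Helper15
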