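import Mathlib

/-!
helper15: Gaschütz's theorem (transfer of crossed homomorphisms) and a lifting lemma for
homomorphisms into an extension with abelian `p`-kernel.
-/

set_option autoImplicit false

namespace Cfsg.Agent.Helper15

open scoped IsMulCommutative

section Gaschutz

variable {X : Type*} [Group X] [Finite X]

/-- **Gaschütz.** Let `A` be an abelian normal subgroup of `X`, `A ≤ H ≤ X` with `|X : H|` prime
to `|A|`, and suppose `A` is complemented in `H` (given through a retraction `c` of `H` onto a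
complement).  Then `A` has a complement `K` in `X`. -/
theorem gaschutz (A H : Subgroup X) [hAn : A.Normal] [IsMulCommutative A] (hAH : A ≤ H)
    (hcop : (Nat.card A).Coprime H.index)
    (c : X → X) (hcA : ∀ h ∈ H, h * (c h)⁻¹ ∈ A)
    (hcmul : ∀ h ∈ H, ∀ h' ∈ H, c (h * h') = c h * c h')
    (hca : ∀ a ∈ A, c a = 1) :
    ∃ K : Subgroup X, (∀ x ∈ K, x ∈ A → x = 1) ∧ ∀ x : X, ∃ a ∈ A, ∃ k ∈ K, x = a * k := by
  classical
  haveI : Fintype (X ⧸ H) := Fintype.ofFinite _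
  -- the crossed homomorphism `h ↦ h * (c h)⁻¹` on `H`
  have hb : ∀ h ∈ H, ∀ h' ∈ H, (h * h') * (c (h * h'))⁻¹ =
      (h * (c h)⁻¹) * (h * (h' * (c h')⁻¹) * h⁻¹) := by
    intro h hh h' hh'
    rw [hcmul h hh h' hh']
    have ha : h * (c h)⁻¹ ∈ A := hcA h hh
    have ha' : h' * (c h')⁻¹ ∈ A := hcA h' hh'
    have hw : c h * (h' * (c h')⁻¹) * (c h)⁻¹ ∈ A := hAn.conj_mem _ ha' _
    have e2 : (h * (c h)⁻¹) * (c h * (h' * (c h')⁻¹) * (c h)⁻¹) =
        (c h * (h' * (c h')⁻¹) * (c h)⁻¹) * (h * (c h)⁻¹) :=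
      congrArg Subtype.val (mul_comm' (⟨_, ha⟩ : A) ⟨_, hw⟩)
    calc h * h' * (c h * c h')⁻¹
        = (h * (c h)⁻¹) * (c h * (h' * (c h')⁻¹) * (c h)⁻¹) := by group
      _ = (h * (c h)⁻¹) * (((c h * (h' * (c h')⁻¹) * (c h)⁻¹) * (h * (c h)⁻¹)) *
            (h * (c h)⁻¹)⁻¹) := by group
      _ = (h * (c h)⁻¹) * (((h * (c h)⁻¹) * (c h * (h' * (c h')⁻¹) * (c h)⁻¹)) *
            (h * (c h)⁻¹)⁻¹) := by rw [e2]
      _ = h * (c h)⁻¹ * (h * (h' * (c h')⁻¹) * h⁻¹) := by group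
  obtain ⟨r, hr⟩ : ∃ r : X ⧸ H → X, ∀ q : X ⧸ H, ((r q : X) : X ⧸ H) = q :=
    ⟨fun q => q.out, fun q => QuotientGroup.out_eq' q⟩
  have hsm : ∀ (x : X) (q : X ⧸ H), x • q = ((x * r q : X) : X ⧸ H) := by
    intro x q
    conv_lhs => rw [← hr q]
    rfl
  have hmem : ∀ (x : X) (q : X ⧸ H), (r (x • q))⁻¹ * (x * r q) ∈ H := by
    intro x q
    rw [← QuotientGroup.eq, hr]
    exact hsm x q
  obtain ⟨t, ht⟩ : ∃ t : X → X ⧸ H → A, ∀ x q, ((t x q : A) : X) =
      r (x • q) * ((r (x • q))⁻¹ * (x * r q) * (c ((r (x • q))⁻¹ * (x * r q)))⁻¹) *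
        (r (x • q))⁻¹ :=
    ⟨fun x q => ⟨_, hAn.conj_mem _ (hcA _ (hmem x q)) _⟩, fun _ _ => rfl⟩
  have ht_mul : ∀ (x y : X) (q : X ⧸ H),
      t (x * y) q = t x (y • q) * (MulAut.conjNormal x : MulAut A) (t y q) := by
    intro x y q
    apply Subtype.ext
    rw [Subgroup.coe_mul, MulAut.conjNormal_apply, ht, ht, ht, mul_smul]
    have e : (r (x • y • q))⁻¹ * (x * y * r q) =
        ((r (x • y • q))⁻¹ * (x * r (y • q))) * ((r (y • q))⁻¹ * (y * r q)) := by group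
    rw [e, hb _ (hmem x (y • q)) _ (hmem y q)]
    group
  obtain ⟨γ, hγ⟩ : ∃ γ : X → A, ∀ x, γ x = ∏ q : X ⧸ H, t x q := ⟨_, fun _ => rfl⟩
  have hγ_mul : ∀ x y : X, γ (x * y) = γ x * (MulAut.conjNormal x : MulAut A) (γ y) := by
    intro x y
    have e1 : ∏ q : X ⧸ H, t (x * y) q =
        ∏ q : X ⧸ H, (t x (y • q) * (MulAut.conjNormal x : MulAut A) (t y q)) :=
      Finset.prod_congr rfl (fun q _ => ht_mul x y q)
    have e2 : ∏ q : X ⧸ H, t x (y • q) = ∏ q : X ⧸ H, t x q :=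
      Equiv.prod_comp (MulAction.toPerm y) (fun q => t x q)
    rw [hγ, hγ, hγ, e1, Finset.prod_mul_distrib, e2, map_prod]
  have hγ_a : ∀ a ∈ A, ((γ a : A) : X) = a ^ H.index := by
    intro a ha
    have hq : ∀ q : X ⧸ H, a • q = q := by
      intro q
      rw [hsm]
      conv_rhs => rw [← hr q]
      rw [QuotientGroup.eq]
      have e : (a * r q)⁻¹ * r q = (r q)⁻¹ * a⁻¹ * ((r q)⁻¹)⁻¹ := by group
      rw [e]
      exact hAH (hAn.conj_mem _ (A.inv_mem ha) _)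
    have htq : ∀ q : X ⧸ H, t a q = ⟨a, ha⟩ := by
      intro q
      apply Subtype.ext
      rw [ht, hq]
      have hm : (r q)⁻¹ * (a * r q) ∈ A := by
        have e : (r q)⁻¹ * (a * r q) = (r q)⁻¹ * a * ((r q)⁻¹)⁻¹ := by group
        rw [e]
        exact hAn.conj_mem _ ha _
      rw [hca _ hm]
      group
    rw [hγ, Finset.prod_congr rfl (fun q _ => htq q), Finset.prod_const, Finset.card_univ,
      Subgroup.coe_pow, Subgroup.index_eq_card, Nat.card_eq_fintype_card]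
  obtain ⟨m, hm⟩ : ∃ m : ℤ, ∀ a : A, a ^ ((H.index : ℤ) * m) = a := by
    refine ⟨Nat.gcdA H.index (Nat.card A), fun a => ?_⟩
    have h1 : ((Nat.gcd H.index (Nat.card A) : ℕ) : ℤ) =
        H.index * Nat.gcdA H.index (Nat.card A) + Nat.card A * Nat.gcdB H.index (Nat.card A) :=
      Nat.gcd_eq_gcd_ab _ _
    have h2 : Nat.gcd H.index (Nat.card A) = 1 := hcop.symm
    rw [h2] at h1
    have h3 : (H.index : ℤ) * Nat.gcdA H.index (Nat.card A) =
        1 - Nat.card A * Nat.gcdB H.index (Nat.card A) := by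
      push_cast at h1; linarith
    rw [h3, zpow_sub, zpow_one, zpow_mul, zpow_natCast, pow_card_eq_one', one_zpow, inv_one,
      mul_one]
  obtain ⟨β, hβ⟩ : ∃ β : X → A, ∀ x, β x = γ x ^ m := ⟨_, fun _ => rfl⟩
  have hβ_mul : ∀ x y : X, β (x * y) = β x * (MulAut.conjNormal x : MulAut A) (β y) := by
    intro x y
    rw [hβ, hβ, hβ, hγ_mul, mul_zpow, map_zpow]
  have hβ_a : ∀ a : A, β (a : X) = a := by
    intro a
    have e : γ (a : X) = a ^ H.index := Subtype.ext (by rw [hγ_a a a.2, Subgroup.coe_pow])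
    rw [hβ, e, ← zpow_natCast, ← zpow_mul, hm]
  have hβ_one : β 1 = 1 := hβ_a 1
  let K : Subgroup X :=
    { carrier := {x | β x = 1}
      one_mem' := hβ_one
      mul_mem' := by
        intro x y hx hy
        show β (x * y) = 1
        rw [hβ_mul, show β x = 1 from hx, show β y = 1 from hy, map_one, one_mul]
      inv_mem' := by
        intro x hx
        show β x⁻¹ = 1
        have h1 := hβ_mul x⁻¹ x
        rw [inv_mul_cancel, hβ_one, show β x = 1 from hx, map_one, mul_one] at h1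
        exact h1.symm }
  refine ⟨K, ?_, ?_⟩
  · intro x hx hxA
    have h1 : β x = 1 := hx
    have h2 : β x = ⟨x, hxA⟩ := hβ_a ⟨x, hxA⟩
    rw [h1] at h2
    exact (congrArg Subtype.val h2).symm
  · intro x
    refine ⟨β x, (β x).2, (β x : X)⁻¹ * x, ?_, by group⟩
    show β ((β x : X)⁻¹ * x) = 1
    have h1 : β ((β x : X)⁻¹) = (β x)⁻¹ := hβ_a (β x)⁻¹
    rw [hβ_mul, h1]
    apply Subtype.ext
    rw [Subgroup.coe_mul, MulAut.conjNormal_apply]
    simp

end Gaschutz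

section Lift

variable {G E Gb : Type*} [Group G] [Group E] [Group Gb]

/-- The fibre product of two homomorphisms into the same group. -/
def fib (π : G →* Gb) (ψ : E →* Gb) : Subgroup (G × E) where
  carrier := {x | π x.1 = ψ x.2}
  one_mem' := by simp
  mul_mem' := by
    intro a b ha hb
    simp only [Set.mem_ofPred_eq, Prod.fst_mul, Prod.snd_mul, map_mul] at *
    rw [ha, hb]
  inv_mem' := by
    intro a ha
    simp only [Set.mem_ofPred_eq, Prod.fst_inv, Prod.snd_inv, map_inv] at *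
    rw [ha]

/-- **Lifting through an abelian `p`-kernel** (Gaschütz).  Let `ψ : E → Ḡ` have abelian
`p`-group kernel, `π : G → Ḡ`, and `P ≤ G` of index prime to `p` such that `π` restricted to
`P` lifts to `σ : P → E`.  Then there is a subgroup `K` of the fibre product `G ×_Ḡ E` which
meets `1 × ker ψ` trivially and surjects onto the part of `G` over the image of `ψ`: the graph
of a lift of `π`. -/
theorem lift_core [Finite G] [Finite E] {p : ℕ} [Fact p.Prime] (π : G →* Gb) (ψ : E →* Gb)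
    (hab : ∀ a ∈ ψ.ker, ∀ b ∈ ψ.ker, a * b = b * a) (hker : IsPGroup p ψ.ker)
    (P : Subgroup G) (hidx : ¬ p ∣ P.index) (σ : ↥P →* E) (hσ : ∀ u : P, ψ (σ u) = π u) :
    ∃ K : Subgroup (G × E), (∀ x ∈ K, π x.1 = ψ x.2) ∧ (∀ e : E, ((1 : G), e) ∈ K → e = 1) ∧
      ∀ (g : G) (e : E), π g = ψ e → ∃ z ∈ ψ.ker, (g, z * e) ∈ K := by
  classical
  have hp : p.Prime := Fact.out
  obtain ⟨f, hf⟩ : ∃ f : ↥(fib π ψ) →* G, ∀ x : ↥(fib π ψ), f x = x.1.1 :=
    ⟨(MonoidHom.fst G E).comp (fib π ψ).subtype, fun _ => rfl⟩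
  have hx2 : ∀ x : ↥(fib π ψ), π x.1.1 = ψ x.1.2 := fun x => x.2
  have hkmem : ∀ x : ↥(fib π ψ), x ∈ f.ker → x.1.2 ∈ ψ.ker := by
    intro x hx
    rw [MonoidHom.mem_ker, hf] at hx
    rw [MonoidHom.mem_ker, ← hx2, hx, map_one]
  haveI hAc : IsMulCommutative ↥f.ker := by
    apply IsMulCommutative.of_comm
    intro a b
    have ha : a.1.1.1 = 1 := by have := a.2; rwa [MonoidHom.mem_ker, hf] at this
    have hb : b.1.1.1 = 1 := by have := b.2; rwa [MonoidHom.mem_ker, hf] at this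
    apply Subtype.ext
    apply Subtype.ext
    apply Prod.ext
    · show a.1.1.1 * b.1.1.1 = b.1.1.1 * a.1.1.1
      rw [ha, hb]
    · show a.1.1.2 * b.1.1.2 = b.1.1.2 * a.1.1.2
      exact hab _ (hkmem _ a.2) _ (hkmem _ b.2)
  have hAH : f.ker ≤ P.comap f := by
    intro x hx
    rw [MonoidHom.mem_ker] at hx
    rw [Subgroup.mem_comap, hx]
    exact P.one_mem
  have hAp : IsPGroup p ↥f.ker := by
    intro a
    have ha : a.1.1.1 = 1 := by have := a.2; rwa [MonoidHom.mem_ker, hf] at this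
    obtain ⟨k, hk⟩ := hker ⟨a.1.1.2, hkmem _ a.2⟩
    have hk' : a.1.1.2 ^ p ^ k = 1 := by
      have := congrArg Subtype.val hk
      simpa using this
    refine ⟨k, ?_⟩
    apply Subtype.ext
    apply Subtype.ext
    apply Prod.ext
    · show (a.1.1 ^ p ^ k).1 = 1
      rw [Prod.pow_fst, ha, one_pow]
    · show (a.1.1 ^ p ^ k).2 = 1
      rw [Prod.pow_snd, hk']
  have hcop : (Nat.card ↥f.ker).Coprime (P.comap f).index := by
    obtain ⟨j, hj⟩ := IsPGroup.iff_card.mp hAp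
    rw [hj]
    apply Nat.Coprime.pow_left
    rw [Nat.Prime.coprime_iff_not_dvd hp]
    intro hdvd
    apply hidx
    have hle : P ≤ f.range := by
      intro u hu
      refine ⟨⟨(u, σ ⟨u, hu⟩), (hσ ⟨u, hu⟩).symm⟩, ?_⟩
      rw [hf]
    rw [Subgroup.index_comap] at hdvd
    exact dvd_trans hdvd (Subgroup.relIndex_dvd_index_of_le hle)
  obtain ⟨c, hc⟩ : ∃ c : ↥(fib π ψ) → ↥(fib π ψ), ∀ (x : ↥(fib π ψ)) (hx : x.1.1 ∈ P),
      c x = ⟨(x.1.1, σ ⟨x.1.1, hx⟩), (hσ ⟨x.1.1, hx⟩).symm⟩ :=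
    ⟨fun x => if hx : x.1.1 ∈ P then ⟨(x.1.1, σ ⟨x.1.1, hx⟩), (hσ ⟨x.1.1, hx⟩).symm⟩ else 1,
      fun x hx => dif_pos hx⟩
  have hHmem : ∀ x : ↥(fib π ψ), x ∈ P.comap f → x.1.1 ∈ P := by
    intro x hx
    rw [Subgroup.mem_comap, hf] at hx
    exact hx
  have hcA : ∀ h ∈ P.comap f, h * (c h)⁻¹ ∈ f.ker := by
    intro h hh
    have e : f (c h) = f h := by
      rw [hc h (hHmem h hh), hf, hf]
    rw [MonoidHom.mem_ker, map_mul, map_inv, e, mul_inv_cancel]
  have hcmul : ∀ h ∈ P.comap f, ∀ h' ∈ P.comap f, c (h * h') = c h * c h' := by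
    intro h hh h' hh'
    rw [hc h (hHmem h hh), hc h' (hHmem h' hh'),
      hc (h * h') (hHmem _ ((P.comap f).mul_mem hh hh'))]
    apply Subtype.ext
    apply Prod.ext
    · rfl
    · show σ ⟨(h * h').1.1, _⟩ = σ ⟨h.1.1, _⟩ * σ ⟨h'.1.1, _⟩
      rw [← map_mul]
      rfl
  have hca : ∀ a ∈ f.ker, c a = 1 := by
    intro a ha
    have ha1 : a.1.1 = 1 := by rwa [MonoidHom.mem_ker, hf] at ha
    have hP1 : a.1.1 ∈ P := by rw [ha1]; exact P.one_mem
    rw [hc a hP1]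
    apply Subtype.ext
    apply Prod.ext
    · exact ha1
    · show σ ⟨a.1.1, hP1⟩ = 1
      have e : (⟨a.1.1, hP1⟩ : P) = 1 := Subtype.ext ha1
      rw [e, map_one]
  obtain ⟨K', hK1, hK2⟩ := gaschutz f.ker (P.comap f) hAH hcop c hcA hcmul hca
  refine ⟨K'.map (fib π ψ).subtype, ?_, ?_, ?_⟩
  · rintro x ⟨k, -, rfl⟩
    exact hx2 k
  · rintro e ⟨k, hk, hke⟩
    have hke' : (k : G × E) = (1, e) := hke
    have hkA : k ∈ f.ker := by
      rw [MonoidHom.mem_ker, hf, hke']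
    have hk1 := hK1 k hk hkA
    rw [hk1] at hke'
    have := congrArg Prod.snd hke'
    simpa using this.symm
  · intro g e hge
    obtain ⟨a, ha, k, hk, hx⟩ := hK2 (⟨(g, e), hge⟩ : ↥(fib π ψ))
    have ha1 : a.1.1 = 1 := by rwa [MonoidHom.mem_ker, hf] at ha
    refine ⟨(a.1.2)⁻¹, ?_, ⟨k, hk, ?_⟩⟩
    · exact (ψ.ker).inv_mem (hkmem a ha)
    · have hk' : k = a⁻¹ * (⟨(g, e), hge⟩ : ↥(fib π ψ)) := by rw [hx]; group
      rw [hk']
      apply Prod.ext
      · show (a.1.1)⁻¹ * g = g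
        rw [ha1, inv_one, one_mul]
      · rfl

end Lift

end Cfsg.Agent.Helper15
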