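import Mathlib
import Cfsg.Prelude.Def_IsolatedElements
import Cfsg.Agent.Helper19.PGroup
import Cfsg.Agent.Helper16.Conj

/-!
Helper library (helper15): isolated `p`-elements (`Cfsg.IsIsolated`).
-/

set_option autoImplicit false

namespace Cfsg.Agent.Helper15

variable {G : Type*} [Group G]

theorem mem_centralizer_singleton_of_conj_eq {n x : G} (h : n * x * n⁻¹ = x) :
    n ∈ Subgroup.centralizer ({x} : Set G) := by
  rw [Subgroup.mem_centralizer_iff]
  intro y hy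
  rw [Set.mem_singleton_iff] at hy
  rw [hy]
  have : n * x = x * n := by
    calc n * x = (n * x * n⁻¹) * n := by group
      _ = x * n := by rw [h]
  exact this.symm

theorem conj_eq_of_mem_centralizer_singleton {n x : G}
    (h : n ∈ Subgroup.centralizer ({x} : Set G)) : n * x * n⁻¹ = x := by
  rw [Subgroup.mem_centralizer_iff] at h
  have := h x (Set.mem_singleton x)
  rw [← this, mul_inv_cancel_right]

theorem isIsolated_conj {x : G} (h : Cfsg.IsIsolated x) (a : G) :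
    Cfsg.IsIsolated (a * x * a⁻¹) := by
  intro g hc
  have hc' : (a * x * a⁻¹) * (g * (a * x * a⁻¹) * g⁻¹) =
      (g * (a * x * a⁻¹) * g⁻¹) * (a * x * a⁻¹) := hc
  have h1 : Commute x ((a⁻¹ * g * a) * x * (a⁻¹ * g * a)⁻¹) := by
    show x * ((a⁻¹ * g * a) * x * (a⁻¹ * g * a)⁻¹) = ((a⁻¹ * g * a) * x * (a⁻¹ * g * a)⁻¹) * x
    calc x * ((a⁻¹ * g * a) * x * (a⁻¹ * g * a)⁻¹)
        = a⁻¹ * ((a * x * a⁻¹) * (g * (a * x * a⁻¹) * g⁻¹)) * a := by group
      _ = a⁻¹ * ((g * (a * x * a⁻¹) * g⁻¹) * (a * x * a⁻¹)) * a := by rw [hc']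
      _ = ((a⁻¹ * g * a) * x * (a⁻¹ * g * a)⁻¹) * x := by group
  have h2 := h _ h1
  calc g * (a * x * a⁻¹) * g⁻¹ = a * ((a⁻¹ * g * a) * x * (a⁻¹ * g * a)⁻¹) * a⁻¹ := by group
    _ = a * x * a⁻¹ := by rw [h2]

/-- An isolated element is central in every `p`-subgroup containing it. -/
theorem isolated_comm_of_pgroup [Finite G] {p : ℕ} [Fact p.Prime] {x : G}
    (hiso : Cfsg.IsIsolated x) (R : Subgroup G) (hR : IsPGroup p R) (hxR : x ∈ R) :
    R ≤ Subgroup.centralizer ({x} : Set G) := by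
  by_contra hnot
  have hlt : R ⊓ Subgroup.centralizer ({x} : Set G) < R := by
    refine lt_of_le_of_ne inf_le_left ?_
    intro heq
    apply hnot
    rw [← heq]; exact inf_le_right
  obtain ⟨n, hnR, hnN, hnC⟩ := Cfsg.Agent.Helper19.exists_mem_normalizer_not_mem hR hlt
  apply hnC
  have hxC : x ∈ R ⊓ Subgroup.centralizer ({x} : Set G) :=
    Subgroup.mem_inf.mpr ⟨hxR, mem_centralizer_singleton_of_conj_eq (by group)⟩
  have h1 : n * x * n⁻¹ ∈ R ⊓ Subgroup.centralizer ({x} : Set G) :=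
    (Subgroup.mem_normalizer_iff.mp hnN x).mp hxC
  have h2 := (Subgroup.mem_inf.mp h1).2
  rw [Subgroup.mem_centralizer_iff] at h2
  have h3 : x * (n * x * n⁻¹) = (n * x * n⁻¹) * x := h2 x (Set.mem_singleton x)
  have h4 : n * x * n⁻¹ = x := hiso n h3
  exact Subgroup.mem_inf.mpr ⟨hnR, mem_centralizer_singleton_of_conj_eq h4⟩

/-- The normalizer of a `p`-subgroup containing an isolated element centralizes it. -/
theorem isolated_normalizer_le [Finite G] {p : ℕ} [Fact p.Prime] {x : G}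
    (hiso : Cfsg.IsIsolated x) (R : Subgroup G) (hR : IsPGroup p R) (hxR : x ∈ R) :
    Subgroup.normalizer (R : Set G) ≤ Subgroup.centralizer ({x} : Set G) := by
  intro n hn
  have h1 : n * x * n⁻¹ ∈ R := (Subgroup.mem_normalizer_iff.mp hn x).mp hxR
  have h2 := isolated_comm_of_pgroup hiso R hR hxR h1
  rw [Subgroup.mem_centralizer_iff] at h2
  have h3 : x * (n * x * n⁻¹) = (n * x * n⁻¹) * x := h2 x (Set.mem_singleton x)
  exact mem_centralizer_singleton_of_conj_eq (hiso n h3)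

/-- Two conjugates of an isolated `p`-element lying in a subgroup `H` are conjugate in `H`. -/
theorem isolated_conj_in_subgroup' [Finite G] {p : ℕ} [Fact p.Prime] {x : G}
    (hx : ∃ k : ℕ, orderOf x = p ^ k) (hiso : Cfsg.IsIsolated x) (H : Subgroup G) (hxH : x ∈ H)
    (g : G) (hgH : g * x * g⁻¹ ∈ H) : ∃ h ∈ H, h * (g * x * g⁻¹) * h⁻¹ = x := by
  obtain ⟨k, hk⟩ := hx
  have hp1 : IsPGroup p ↥(Subgroup.zpowers (⟨x, hxH⟩ : ↥H)) :=
    IsPGroup.of_card (n := k) (by rw [Nat.card_zpowers, Subgroup.orderOf_mk, hk])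
  have hord : orderOf (g * x * g⁻¹) = orderOf x :=
    orderOf_injective (MulAut.conj g).toMonoidHom (MulAut.conj g).injective x
  have hp2 : IsPGroup p ↥(Subgroup.zpowers (⟨g * x * g⁻¹, hgH⟩ : ↥H)) :=
    IsPGroup.of_card (n := k) (by rw [Nat.card_zpowers, Subgroup.orderOf_mk, hord, hk])
  obtain ⟨R, hR⟩ := hp1.exists_le_sylow
  obtain ⟨c, hc⟩ := Cfsg.Agent.Helper16.exists_conj_le_sylow R hp2
  have hR'p : IsPGroup p ↥((R : Subgroup ↥H).map H.subtype) := R.isPGroup'.map H.subtype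
  have hxR' : x ∈ (R : Subgroup ↥H).map H.subtype :=
    ⟨⟨x, hxH⟩, hR (Subgroup.mem_zpowers _), rfl⟩
  have hcR' : (c : G) * (g * x * g⁻¹) * (c : G)⁻¹ ∈ (R : Subgroup ↥H).map H.subtype :=
    ⟨c * ⟨g * x * g⁻¹, hgH⟩ * c⁻¹, hc _ (Subgroup.mem_zpowers _), by simp⟩
  have h2 := isolated_comm_of_pgroup hiso _ hR'p hxR' hcR'
  rw [Subgroup.mem_centralizer_iff] at h2
  have h3 : x * ((c : G) * (g * x * g⁻¹) * (c : G)⁻¹) = ((c : G) * (g * x * g⁻¹) * (c : G)⁻¹) * x :=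
    h2 x (Set.mem_singleton x)
  have e : (c : G) * (g * x * g⁻¹) * (c : G)⁻¹ = ((c : G) * g) * x * ((c : G) * g)⁻¹ := by group
  rw [e] at h3
  have h4 := hiso _ h3
  exact ⟨c, c.2, by rw [e]; exact h4⟩

/-- Fusion of powers of an isolated `p`-element inside a Sylow `p`-subgroup. -/
theorem isolated_fusion_pow [Finite G] {p : ℕ} [Fact p.Prime] (P : Sylow p G) {x : G}
    (hxP : x ∈ (P : Subgroup G)) (hx : ∃ k : ℕ, orderOf x = p ^ k) (hiso : Cfsg.IsIsolated x)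
    (y : G) (hy : y ∈ Subgroup.zpowers x) (g : G) (hg : g * y * g⁻¹ ∈ (P : Subgroup G)) :
    g * y * g⁻¹ = y := by
  have hpow : ∀ c : G, Commute c x → Commute c y := by
    intro c hc
    obtain ⟨j, rfl⟩ := Subgroup.mem_zpowers_iff.mp hy
    exact hc.zpow_right j
  have hcxy : Commute x y := hpow x (Commute.refl x)
  have hP'p : IsPGroup p ↥((P : Subgroup G).map (MulAut.conj g⁻¹).toMonoidHom) :=
    P.isPGroup'.map _
  have hx'P' : g⁻¹ * x * g⁻¹⁻¹ ∈ (P : Subgroup G).map (MulAut.conj g⁻¹).toMonoidHom :=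
    ⟨x, hxP, by simp [MulAut.conj_apply]⟩
  have hyP' : y ∈ (P : Subgroup G).map (MulAut.conj g⁻¹).toMonoidHom :=
    ⟨g * y * g⁻¹, hg, by simp [MulAut.conj_apply, mul_assoc]⟩
  have hiso' := isIsolated_conj hiso g⁻¹
  have h1 := isolated_comm_of_pgroup hiso' _ hP'p hx'P' hyP'
  rw [Subgroup.mem_centralizer_iff] at h1
  have h2 : (g⁻¹ * x * g⁻¹⁻¹) * y = y * (g⁻¹ * x * g⁻¹⁻¹) := h1 _ (Set.mem_singleton _)
  have hxH : x ∈ Subgroup.centralizer ({y} : Set G) := by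
    rw [Subgroup.mem_centralizer_iff]
    intro z hz
    rw [Set.mem_singleton_iff] at hz
    rw [hz]
    exact hcxy.eq.symm
  have hx'H : g⁻¹ * x * g⁻¹⁻¹ ∈ Subgroup.centralizer ({y} : Set G) := by
    rw [Subgroup.mem_centralizer_iff]
    intro z hz
    rw [Set.mem_singleton_iff] at hz
    rw [hz]
    exact h2.symm
  obtain ⟨c, hcH, hcx⟩ := isolated_conj_in_subgroup' hx hiso _ hxH g⁻¹ hx'H
  have hc1 : Commute (c * g⁻¹) x := by
    show (c * g⁻¹) * x = x * (c * g⁻¹)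
    calc (c * g⁻¹) * x = (c * (g⁻¹ * x * g⁻¹⁻¹) * c⁻¹) * (c * g⁻¹) := by group
      _ = x * (c * g⁻¹) := by rw [hcx]
  have hc2 : Commute (c * g⁻¹) y := hpow _ hc1
  have hc3 : Commute c y := by
    rw [Subgroup.mem_centralizer_iff] at hcH
    exact (hcH y (Set.mem_singleton y)).symm
  have hc4 : Commute (c⁻¹ * (c * g⁻¹)) y := hc3.inv_left.mul_left hc2
  have e : c⁻¹ * (c * g⁻¹) = g⁻¹ := by group
  rw [e] at hc4
  have hc5 : Commute g y := by simpa using hc4.inv_left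
  rw [hc5.eq, mul_inv_cancel_right]

/-- Burnside hypothesis for a cyclic Sylow subgroup whose normalizer centralizes a nontrivial
element of it. -/
theorem burnside_cyclic [Finite G] {p : ℕ} [Fact p.Prime] (P : Sylow p G)
    (hcyc : IsCyclic ↥(P : Subgroup G)) (x : G) (hxP : x ∈ (P : Subgroup G)) (hx1 : x ≠ 1)
    (hN : Subgroup.normalizer ((P : Subgroup G) : Set G) ≤ Subgroup.centralizer ({x} : Set G)) :
    Subgroup.normalizer ((P : Subgroup G) : Set G) ≤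
      Subgroup.centralizer ((P : Subgroup G) : Set G) := by
  have hp : p.Prime := Fact.out
  obtain ⟨a', ha'⟩ := hcyc.exists_generator
  have haP : (a' : G) ∈ (P : Subgroup G) := a'.2
  have hpow : ∀ y ∈ (P : Subgroup G), ∃ i : ℕ, (a' : G) ^ i = y := by
    intro y hy
    have h1 : (⟨y, hy⟩ : ↥(P : Subgroup G)) ∈ Subgroup.zpowers a' := ha' _
    have h2 : (⟨y, hy⟩ : ↥(P : Subgroup G)) ∈ Submonoid.powers a' :=
      (isOfFinOrder_of_finite a').mem_powers_iff_mem_zpowers.mpr h1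
    obtain ⟨i, hi⟩ := (Submonoid.mem_powers_iff _ _).mp h2
    exact ⟨i, by have := congrArg Subtype.val hi; simpa using this⟩
  obtain ⟨k, hk⟩ := IsPGroup.iff_card.mp P.isPGroup'
  have hord : orderOf (a' : G) = p ^ k := by
    rw [← hk, Subgroup.orderOf_coe a']
    exact orderOf_eq_card_of_forall_mem_zpowers ha'
  intro n hn
  obtain ⟨u, hu⟩ := hpow (n * (a' : G) * n⁻¹) ((Subgroup.mem_normalizer_iff.mp hn _).mp haP)
  obtain ⟨s, hs⟩ := hpow x hxP
  have hnx : n * x * n⁻¹ = x := conj_eq_of_mem_centralizer_singleton (hN hn)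
  have h1 : (a' : G) ^ (u * s) = (a' : G) ^ s := by
    rw [pow_mul, hu, conj_pow, hs, hnx]
  have h2 : u * s ≡ s [MOD p ^ k] := by rw [← hord]; exact pow_eq_pow_iff_modEq.mp h1
  have hs' : ¬ p ^ k ∣ s := by
    intro hd
    apply hx1
    rw [← hs]
    rw [← hord] at hd
    exact orderOf_dvd_iff_pow_eq_one.mp hd
  have hk1 : 1 ≤ k := by
    by_contra h0
    have : k = 0 := by omega
    rw [this, pow_zero] at hs'
    exact hs' (one_dvd s)
  have h3 : (p : ℤ) ∣ (u : ℤ) - 1 := by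
    by_contra hnd
    have h4 : ((p ^ k : ℕ) : ℤ) ∣ (s : ℤ) - ((u * s : ℕ) : ℤ) := (Nat.modEq_iff_dvd.mp h2)
    have h5 : ((p : ℤ) ^ k) ∣ ((u : ℤ) - 1) * s := by
      have e : ((u : ℤ) - 1) * s = -((s : ℤ) - ((u * s : ℕ) : ℤ)) := by push_cast; ring
      rw [e]
      exact (dvd_neg.mpr (by exact_mod_cast h4))
    have hpi : Prime (p : ℤ) := Nat.prime_iff_prime_int.mp hp
    have hcop : IsCoprime ((p : ℤ) ^ k) ((u : ℤ) - 1) :=
      IsCoprime.pow_left (hpi.irreducible.coprime_iff_not_dvd.mpr hnd)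
    have h6 : ((p : ℤ) ^ k) ∣ (s : ℤ) := hcop.dvd_of_dvd_mul_left h5
    exact hs' (by exact_mod_cast h6)
  have h7 : ((p : ℤ) ^ (k - 1 + 1)) ∣ (u : ℤ) ^ p ^ (k - 1) - 1 ^ p ^ (k - 1) :=
    dvd_sub_pow_of_dvd_sub h3 (k - 1)
  have h8 : u ^ p ^ (k - 1) ≡ 1 [MOD p ^ k] := by
    rw [Nat.modEq_iff_dvd]
    have hk' : k - 1 + 1 = k := by omega
    rw [hk', one_pow] at h7
    have h7' := dvd_neg.mpr h7
    push_cast
    rw [show ((1 : ℤ) - (u : ℤ) ^ p ^ (k - 1)) = -((u : ℤ) ^ p ^ (k - 1) - 1) by ring]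
    exact h7'
  have h9 : ∀ j : ℕ, n ^ j * (a' : G) * (n ^ j)⁻¹ = (a' : G) ^ (u ^ j) := by
    intro j
    induction j with
    | zero => simp
    | succ j ih =>
      have e : n ^ (j + 1) * (a' : G) * (n ^ (j + 1))⁻¹ =
          n * (n ^ j * (a' : G) * (n ^ j)⁻¹) * n⁻¹ := by
        rw [pow_succ']; group
      rw [e, ih, ← conj_pow, ← hu, ← pow_mul, pow_succ']
  have h10 : n ^ p ^ (k - 1) * (a' : G) * (n ^ p ^ (k - 1))⁻¹ = (a' : G) := by
    rw [h9]
    have : (a' : G) ^ (u ^ p ^ (k - 1)) = (a' : G) ^ 1 :=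
      pow_eq_pow_iff_modEq.mpr (by rw [hord]; exact h8)
    rw [this, pow_one]
  have hcent : ∀ c : G, c * (a' : G) * c⁻¹ = (a' : G) →
      c ∈ Subgroup.centralizer ((P : Subgroup G) : Set G) := by
    intro c hc
    rw [Subgroup.mem_centralizer_iff]
    intro y hy
    obtain ⟨i, rfl⟩ := hpow y hy
    have hca : Commute c (a' : G) := by
      show c * (a' : G) = (a' : G) * c
      calc c * (a' : G) = (c * (a' : G) * c⁻¹) * c := by group
        _ = (a' : G) * c := by rw [hc]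
    exact (hca.pow_right i).eq.symm
  have hc1 := hcent _ h10
  obtain ⟨e, r, hr, hnr⟩ := Nat.exists_eq_pow_mul_and_not_dvd (orderOf_pos n).ne' p hp.ne_one
  have h11 : (n ^ r) ^ p ^ e = 1 := by
    rw [← pow_mul, mul_comm, ← hnr, pow_orderOf_eq_one]
  have h12 : n ^ r ∈ (P : Subgroup G) :=
    Cfsg.Agent.Helper16.mem_sylow_of_mem_normalizer P (Subgroup.pow_mem _ hn r) h11
  have hc2 : n ^ r ∈ Subgroup.centralizer ((P : Subgroup G) : Set G) := by
    obtain ⟨i, hi⟩ := hpow _ h12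
    apply hcent
    rw [← hi, ← pow_succ, pow_succ', mul_inv_cancel_right]
  have hcop : Nat.Coprime (p ^ (k - 1)) r :=
    Nat.Coprime.pow_left _ ((Nat.Prime.coprime_iff_not_dvd hp).mpr hr)
  have hb := Nat.gcd_eq_gcd_ab (p ^ (k - 1)) r
  rw [Nat.Coprime.gcd_eq_one hcop] at hb
  have hn' : n = (n ^ p ^ (k - 1)) ^ (Nat.gcdA (p ^ (k - 1)) r) *
      (n ^ r) ^ (Nat.gcdB (p ^ (k - 1)) r) := by
    calc n = n ^ (1 : ℤ) := (zpow_one n).symm
      _ = n ^ (((p ^ (k - 1) : ℕ) : ℤ) * Nat.gcdA (p ^ (k - 1)) r +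
            (r : ℤ) * Nat.gcdB (p ^ (k - 1)) r) := by rw [← hb]; simp
      _ = _ := by rw [zpow_add, zpow_mul, zpow_mul, zpow_natCast, zpow_natCast]
  rw [hn']
  exact Subgroup.mul_mem _ (Subgroup.zpow_mem _ hc1 _) (Subgroup.zpow_mem _ hc2 _)

end Cfsg.Agent.Helper15
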