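import Mathlib
import Cfsg.Prelude.Def_SylowChains
import Cfsg.Agent.Helper19.PGroup
import Cfsg.Agent.Helper19.PCenter
import Cfsg.Agent.Helper16.Conj

/-!
Helper library (helper15): classical strongly `p`-embedded subgroups, given by the hypothesis
`hse : ∀ g, g ∉ H → ¬ p ∣ |H ∩ gHg⁻¹|`, and the Sylow intersection graph.
-/

set_option autoImplicit false

namespace Cfsg.Agent.Helper15

variable {G : Type*} [Group G]

theorem closure_normal_of_conj (T : Set G) (h : ∀ g x, x ∈ T → g * x * g⁻¹ ∈ T) :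
    (Subgroup.closure T).Normal := by
  constructor
  intro n hn g
  have h1 : (Subgroup.closure T).map (MulAut.conj g).toMonoidHom ≤ Subgroup.closure T := by
    rw [MonoidHom.map_closure, Subgroup.closure_le]
    rintro _ ⟨x, hx, rfl⟩
    exact Subgroup.subset_closure (by simpa [MulAut.conj_apply] using h g x hx)
  exact h1 ⟨n, hn, by simp [MulAut.conj_apply]⟩

theorem exists_ne_one_of_ne_bot {K : Subgroup G} (h : K ≠ ⊥) : ∃ y ∈ K, y ≠ 1 := by
  by_contra hcon
  push Not at hcon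
  exact h ((Subgroup.eq_bot_iff_forall K).mpr hcon)

theorem exists_pow_of_mem_pgroup {p : ℕ} {K : Subgroup G} (hK : IsPGroup p K) {y : G}
    (hy : y ∈ K) : ∃ k : ℕ, y ^ p ^ k = 1 := by
  obtain ⟨k, hk⟩ := hK ⟨y, hy⟩
  exact ⟨k, by have := congrArg Subtype.val hk; simpa using this⟩

theorem prime_dvd_orderOf {p : ℕ} [Fact p.Prime] {y : G} (hy1 : y ≠ 1) {k : ℕ}
    (hyk : y ^ p ^ k = 1) : p ∣ orderOf y := by
  have hp : p.Prime := Fact.out
  obtain ⟨j, -, hjo⟩ := (Nat.dvd_prime_pow hp).mp (orderOf_dvd_of_pow_eq_one hyk)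
  rw [hjo]
  have : j ≠ 0 := by
    rintro rfl
    rw [pow_zero, orderOf_eq_one_iff] at hjo
    exact hy1 hjo
  exact dvd_pow_self p this

theorem exists_pow_order_p {M : Type*} [Group M] {p : ℕ} [Fact p.Prime] {y : M} (hy1 : y ≠ 1)
    {k : ℕ} (hyk : y ^ p ^ k = 1) : ∃ m : ℕ, y ^ m ≠ 1 ∧ (y ^ m) ^ p = 1 := by
  have hp : p.Prime := Fact.out
  obtain ⟨j, -, hjo⟩ := (Nat.dvd_prime_pow hp).mp (orderOf_dvd_of_pow_eq_one hyk)
  have hj0 : j ≠ 0 := by
    rintro rfl
    rw [pow_zero, orderOf_eq_one_iff] at hjo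
    exact hy1 hjo
  refine ⟨p ^ (j - 1), ?_, ?_⟩
  · intro h
    have hd : orderOf y ∣ p ^ (j - 1) := orderOf_dvd_of_pow_eq_one h
    rw [hjo] at hd
    have := (Nat.pow_dvd_pow_iff_le_right hp.one_lt).mp hd
    omega
  · rw [← pow_mul, ← pow_succ, show j - 1 + 1 = j by omega, ← hjo, pow_orderOf_eq_one]

section SE

variable [Finite G] {p : ℕ} [Fact p.Prime] {H : Subgroup G}

/-- If a nontrivial `p`-element of `H` also lies in `gHg⁻¹`, then `g ∈ H`. -/
theorem cse_mem_of_mem_map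
    (hse : ∀ g : G, g ∉ H → ¬ p ∣ Nat.card ↥(H ⊓ H.map (MulAut.conj g).toMonoidHom))
    {y : G} (hy1 : y ≠ 1) {k : ℕ} (hyk : y ^ p ^ k = 1) (hyH : y ∈ H) (g : G)
    (hyg : y ∈ H.map (MulAut.conj g).toMonoidHom) : g ∈ H := by
  by_contra hg
  apply hse g hg
  have hle : Subgroup.zpowers y ≤ H ⊓ H.map (MulAut.conj g).toMonoidHom := by
    rw [Subgroup.zpowers_le]; exact Subgroup.mem_inf.mpr ⟨hyH, hyg⟩
  have hdvd : Nat.card (Subgroup.zpowers y) ∣
      Nat.card ↥(H ⊓ H.map (MulAut.conj g).toMonoidHom) := Subgroup.card_dvd_of_le hle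
  refine dvd_trans ?_ hdvd
  rw [Nat.card_zpowers]
  exact prime_dvd_orderOf hy1 hyk

/-- If `y` and `g y g⁻¹` are in `H` for a nontrivial `p`-element `y`, then `g ∈ H`. -/
theorem cse_mem_of_conj_mem
    (hse : ∀ g : G, g ∉ H → ¬ p ∣ Nat.card ↥(H ⊓ H.map (MulAut.conj g).toMonoidHom))
    {y : G} (hy1 : y ≠ 1) {k : ℕ} (hyk : y ^ p ^ k = 1) (hyH : y ∈ H) (g : G)
    (hg : g * y * g⁻¹ ∈ H) : g ∈ H := by
  have h1 : g * y * g⁻¹ ≠ 1 := by
    intro h
    apply hy1
    have : y = g⁻¹ * (g * y * g⁻¹) * g := by group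
    rw [this, h]; group
  have h2 : (g * y * g⁻¹) ^ p ^ k = 1 := by rw [conj_pow, hyk]; group
  exact cse_mem_of_mem_map hse h1 h2 hg g ⟨y, hyH, by simp [MulAut.conj_apply]⟩

/-- Normalizers of nontrivial `p`-subgroups of `H` lie in `H`. -/
theorem cse_normalizer_le
    (hse : ∀ g : G, g ∉ H → ¬ p ∣ Nat.card ↥(H ⊓ H.map (MulAut.conj g).toMonoidHom))
    {A : Subgroup G} (hA : IsPGroup p A) (hAH : A ≤ H) (hA1 : A ≠ ⊥) :
    Subgroup.normalizer (A : Set G) ≤ H := by
  intro g hg
  obtain ⟨y, hyA, hy1⟩ := exists_ne_one_of_ne_bot hA1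
  obtain ⟨k, hk⟩ := exists_pow_of_mem_pgroup hA hyA
  exact cse_mem_of_conj_mem hse hy1 hk (hAH hyA) g
    (hAH ((Subgroup.mem_normalizer_iff.mp hg y).mp hyA))

/-- `H` contains a Sylow `p`-subgroup of `G`. -/
theorem cse_exists_sylow_le (hpH : p ∣ Nat.card H)
    (hse : ∀ g : G, g ∉ H → ¬ p ∣ Nat.card ↥(H ⊓ H.map (MulAut.conj g).toMonoidHom)) :
    ∃ P : Sylow p G, (P : Subgroup G) ≤ H := by
  have hp : p.Prime := Fact.out
  obtain ⟨Q⟩ : Nonempty (Sylow p ↥H) := inferInstance
  have hQ'p : IsPGroup p ↥((Q : Subgroup ↥H).map H.subtype) := Q.isPGroup'.map _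
  obtain ⟨P, hP⟩ := hQ'p.exists_le_sylow
  refine ⟨P, ?_⟩
  have hQcard : Nat.card ((Q : Subgroup ↥H).map H.subtype) = p ^ (Nat.card ↥H).factorization p := by
    rw [Subgroup.card_map_of_injective (Subgroup.subtype_injective _)]
    exact Q.card_eq_multiplicity
  have hfac : 0 < (Nat.card ↥H).factorization p :=
    hp.factorization_pos_of_dvd Nat.card_pos.ne' hpH
  have hQ1 : (Q : Subgroup ↥H).map H.subtype ≠ ⊥ := by
    intro hb
    rw [hb, Subgroup.card_bot] at hQcard
    have : 1 < p ^ (Nat.card ↥H).factorization p := Nat.one_lt_pow hfac.ne' hp.one_lt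
    omega
  have hmax : ((P : Subgroup G) ⊓ H).subgroupOf H = (Q : Subgroup ↥H) := by
    apply Q.is_maximal' ((P.isPGroup'.to_le inf_le_left).comap_of_injective _
      (Subgroup.subtype_injective _))
    intro q hq
    show (q : G) ∈ (P : Subgroup G) ⊓ H
    exact Subgroup.mem_inf.mpr ⟨hP ⟨q, hq, rfl⟩, q.2⟩
  have hPH : (P : Subgroup G) ⊓ H = (Q : Subgroup ↥H).map H.subtype := by
    rw [← hmax, Subgroup.map_subgroupOf_eq_of_le inf_le_right]
  by_contra hnot
  have hlt : (Q : Subgroup ↥H).map H.subtype < (P : Subgroup G) :=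
    lt_of_le_of_ne hP (fun heq => hnot (heq ▸ Subgroup.map_subtype_le _))
  obtain ⟨x, hxP, hxN, hxQ⟩ := Cfsg.Agent.Helper19.exists_mem_normalizer_not_mem P.isPGroup' hlt
  have hxH : x ∈ H := cse_normalizer_le hse hQ'p (Subgroup.map_subtype_le _) hQ1 hxN
  apply hxQ
  rw [← hPH]
  exact Subgroup.mem_inf.mpr ⟨hxP, hxH⟩

end SE

section Sylow

variable {p : ℕ}

theorem mem_smul_sylow (g : G) (S : Sylow p G) (x : G) :
    x ∈ ((g • S : Sylow p G) : Subgroup G) ↔ g⁻¹ * x * g ∈ (S : Subgroup G) := by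
  rw [Sylow.smul_def, Sylow.pointwise_smul_def, Subgroup.mem_pointwise_smul_iff_inv_smul_mem]
  simp [MulAut.smul_def]

/-- `P ∩ N ≠ 1` for `N` normal of order divisible by `p`. -/
theorem inf_normal_ne_bot [Finite G] [Fact p.Prime] (P : Sylow p G) (N : Subgroup G) [N.Normal]
    (hN : p ∣ Nat.card N) : (P : Subgroup G) ⊓ N ≠ ⊥ := by
  have hp : p.Prime := Fact.out
  have hAcard := Cfsg.Agent.Helper19.card_inf_normal_sylow P N
  have hfac : 0 < (Nat.card N).factorization p :=
    hp.factorization_pos_of_dvd Nat.card_pos.ne' hN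
  intro hb
  rw [hb, Subgroup.card_bot] at hAcard
  have : 1 < p ^ (Nat.card N).factorization p := Nat.one_lt_pow hfac.ne' hp.one_lt
  omega

/-- An element of order `p` of `P ∩ N` centralizing `P`, for `N` normal of order divisible
by `p`. -/
theorem exists_central_order_p [Finite G] [Fact p.Prime] (P : Sylow p G) (N : Subgroup G)
    [N.Normal] (hN : p ∣ Nat.card N) :
    ∃ a : G, a ∈ (P : Subgroup G) ∧ a ∈ N ∧ a ≠ 1 ∧ a ^ p = 1 ∧
      a ∈ Subgroup.centralizer ((P : Subgroup G) : Set G) := by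
  have hp : p.Prime := Fact.out
  have hcard : p ∣ Nat.card (N.subgroupOf (P : Subgroup G)) := by
    have h1 : Nat.card (N.subgroupOf (P : Subgroup G)) = Nat.card ↥((P : Subgroup G) ⊓ N) := by
      rw [← Subgroup.inf_subgroupOf_left]
      exact Nat.card_congr (Subgroup.subgroupOfEquivOfLe inf_le_left).toEquiv
    rw [h1, Cfsg.Agent.Helper19.card_inf_normal_sylow P N]
    exact dvd_pow_self p (hp.factorization_pos_of_dvd Nat.card_pos.ne' hN).ne'
  obtain ⟨b, hbN, hb1, hbZ⟩ := Cfsg.Agent.Helper19.exists_mem_center_of_normal P.isPGroup'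
    (N.subgroupOf (P : Subgroup G)) hcard
  obtain ⟨k, hk⟩ := P.isPGroup' b
  obtain ⟨m, hm1, hmp⟩ := exists_pow_order_p (p := p) hb1 hk
  refine ⟨((b ^ m : ↥(P : Subgroup G)) : G), (b ^ m).2, ?_, ?_, ?_, ?_⟩
  · exact Subgroup.mem_subgroupOf.mp (Subgroup.pow_mem _ hbN m)
  · intro h
    exact hm1 (Subtype.ext h)
  · have := congrArg Subtype.val hmp
    simpa using this
  · rw [Subgroup.mem_centralizer_iff]
    intro y hy
    have hc : b ^ m ∈ Subgroup.center ↥(P : Subgroup G) := Subgroup.pow_mem _ hbZ m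
    have := Subgroup.mem_center_iff.mp hc ⟨y, hy⟩
    exact congrArg Subtype.val this

end Sylow

section Residual

/-- The subgroup generated by the `p'`-elements of `N`. -/
def pres (p : ℕ) (N : Subgroup G) : Subgroup G :=
  Subgroup.closure {g : G | g ∈ N ∧ (orderOf g).Coprime p}

theorem pres_le (p : ℕ) (N : Subgroup G) : pres p N ≤ N := by
  unfold pres
  rw [Subgroup.closure_le]
  exact fun g hg => hg.1

theorem pres_normal (p : ℕ) (N : Subgroup G) [hN : N.Normal] : (pres p N).Normal := by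
  unfold pres
  apply closure_normal_of_conj
  rintro g x ⟨hxN, hxo⟩
  refine ⟨hN.conj_mem x hxN g, ?_⟩
  have : orderOf (g * x * g⁻¹) = orderOf x :=
    orderOf_injective (MulAut.conj g).toMonoidHom (MulAut.conj g).injective x
  show (orderOf (g * x * g⁻¹)).Coprime p
  rw [this]
  exact hxo

/-- `N = O^p(N) (P ∩ N)`. -/
theorem le_pres_sup_sylow [Finite G] {p : ℕ} [Fact p.Prime] (P : Sylow p G) (N : Subgroup G)
    [N.Normal] : N ≤ pres p N ⊔ ((P : Subgroup G) ⊓ N) := by
  have hp : p.Prime := Fact.out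
  have := pres_normal p N
  rw [← Subgroup.relIndex_eq_one]
  have h1 : (pres p N ⊔ ((P : Subgroup G) ⊓ N)).relIndex N ∣ ((P : Subgroup G) ⊓ N).relIndex N :=
    Subgroup.relIndex_dvd_of_le_left N le_sup_right
  have h2 : (pres p N ⊔ ((P : Subgroup G) ⊓ N)).relIndex N ∣ (pres p N).relIndex N :=
    Subgroup.relIndex_dvd_of_le_left N le_sup_left
  have h3 : ¬ p ∣ ((P : Subgroup G) ⊓ N).relIndex N := by
    rw [Subgroup.inf_relIndex_right]
    exact (Cfsg.Agent.Helper19.sylowInf P N).not_dvd_index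
  have h4 : ∃ k, (pres p N).relIndex N = p ^ k := by
    have hpg : IsPGroup p (↥N ⧸ (pres p N).subgroupOf N) := by
      intro q
      obtain ⟨n, rfl⟩ := QuotientGroup.mk_surjective q
      obtain ⟨e, r, hr, hnr⟩ :=
        Nat.exists_eq_pow_mul_and_not_dvd (orderOf_pos (n : G)).ne' p hp.ne_one
      refine ⟨e, ?_⟩
      rw [← QuotientGroup.mk_pow, QuotientGroup.eq_one_iff, Subgroup.mem_subgroupOf,
        Subgroup.coe_pow]
      apply Subgroup.subset_closure
      refine ⟨N.pow_mem n.2 _, ?_⟩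
      have hdvd : orderOf ((n : G) ^ p ^ e) ∣ r := by
        apply orderOf_dvd_of_pow_eq_one
        rw [← pow_mul, ← hnr, pow_orderOf_eq_one]
      exact Nat.Coprime.coprime_dvd_left hdvd ((Nat.Prime.coprime_iff_not_dvd hp).mpr hr).symm
    obtain ⟨k, hk⟩ := IsPGroup.iff_card.mp hpg
    exact ⟨k, by rw [← hk]; rfl⟩
  obtain ⟨k, hk⟩ := h4
  rw [hk] at h2
  obtain ⟨j, -, hj⟩ := (Nat.dvd_prime_pow hp).mp h2
  rw [hj] at h1 ⊢
  by_contra hne
  apply h3
  have hj0 : j ≠ 0 := by
    rintro rfl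
    exact hne (pow_zero p)
  exact dvd_trans (dvd_pow_self p hj0) h1

end Residual

section Graph

variable {p : ℕ}

/-- Adjacency in the Sylow intersection graph. -/
def sylAdj (S T : Sylow p G) : Prop := S ≠ T ∧ (S : Subgroup G) ⊓ (T : Subgroup G) ≠ ⊥

theorem sylAdj_symm {S T : Sylow p G} (h : sylAdj S T) : sylAdj T S :=
  ⟨h.1.symm, by rw [inf_comm]; exact h.2⟩

theorem sylAdj_smul (g : G) {S T : Sylow p G} (h : sylAdj S T) : sylAdj (g • S) (g • T) := by
  refine ⟨fun heq => h.1 (MulAction.injective g heq), ?_⟩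
  obtain ⟨y, hy, hy1⟩ := exists_ne_one_of_ne_bot h.2
  obtain ⟨hyS, hyT⟩ := Subgroup.mem_inf.mp hy
  intro hb
  have hmem : g * y * g⁻¹ ∈ ((g • S : Sylow p G) : Subgroup G) ⊓ ((g • T : Sylow p G) : Subgroup G) := by
    apply Subgroup.mem_inf.mpr
    constructor
    · rw [mem_smul_sylow]
      have : g⁻¹ * (g * y * g⁻¹) * g = y := by group
      rw [this]; exact hyS
    · rw [mem_smul_sylow]
      have : g⁻¹ * (g * y * g⁻¹) * g = y := by group
      rw [this]; exact hyT
  rw [hb, Subgroup.mem_bot] at hmem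
  apply hy1
  have : y = g⁻¹ * (g * y * g⁻¹) * g := by group
  rw [this, hmem]; group

/-- Reachability in the Sylow intersection graph. -/
def sylReach (S T : Sylow p G) : Prop := Relation.ReflTransGen sylAdj S T

theorem sylReach_symm {S T : Sylow p G} (h : sylReach S T) : sylReach T S := by
  unfold sylReach at h ⊢
  induction h with
  | refl => exact Relation.ReflTransGen.refl
  | tail _ hbc ih => exact Relation.ReflTransGen.head (sylAdj_symm hbc) ih

theorem sylReach_smul (g : G) {S T : Sylow p G} (h : sylReach S T) :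
    sylReach (g • S) (g • T) :=
  Relation.ReflTransGen.lift (fun X => g • X) (fun _ _ hab => sylAdj_smul g hab) _ _ h

theorem sylReach_of_mem {S T : Sylow p G} {y : G} (hy1 : y ≠ 1) (hyS : y ∈ (S : Subgroup G))
    (hyT : y ∈ (T : Subgroup G)) : sylReach S T := by
  by_cases hST : S = T
  · rw [hST]; exact Relation.ReflTransGen.refl
  · apply Relation.ReflTransGen.single
    refine ⟨hST, ?_⟩
    intro hb
    have : y ∈ (S : Subgroup G) ⊓ (T : Subgroup G) := Subgroup.mem_inf.mpr ⟨hyS, hyT⟩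
    rw [hb, Subgroup.mem_bot] at this
    exact hy1 this

/-- The stabilizer of the connected component of `S`. -/
def compSubgroup (S : Sylow p G) : Subgroup G where
  carrier := {g | sylReach S (g • S)}
  one_mem' := by
    show sylReach S ((1 : G) • S)
    rw [one_smul]; exact Relation.ReflTransGen.refl
  mul_mem' := by
    intro a b ha hb
    show sylReach S ((a * b) • S)
    rw [mul_smul]
    exact Relation.ReflTransGen.trans ha (sylReach_smul a hb)
  inv_mem' := by
    intro a ha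
    show sylReach S (a⁻¹ • S)
    have h1 := sylReach_smul a⁻¹ ha
    rw [inv_smul_smul] at h1
    exact sylReach_symm h1

theorem mem_compSubgroup {S : Sylow p G} {g : G} : g ∈ compSubgroup S ↔ sylReach S (g • S) :=
  Iff.rfl

theorem le_compSubgroup (S : Sylow p G) : (S : Subgroup G) ≤ compSubgroup S := by
  intro s hs
  rw [mem_compSubgroup]
  have : s • S = S := Sylow.smul_eq_iff_mem_normalizer.mpr (Subgroup.le_normalizer hs)
  rw [this]
  exact Relation.ReflTransGen.refl

/-- A chain realizing reachability. -/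
theorem exists_chain_of_sylReach {S T : Sylow p G} (h : sylReach S T) :
    ∃ (n : ℕ) (c : Fin (n + 1) → Sylow p G), c 0 = S ∧ c (Fin.last n) = T ∧
      ∀ i : Fin n, sylAdj (c i.castSucc) (c i.succ) := by
  refine Relation.ReflTransGen.head_induction_on (motive := fun X _ =>
    ∃ (n : ℕ) (c : Fin (n + 1) → Sylow p G), c 0 = X ∧ c (Fin.last n) = T ∧
      ∀ i : Fin n, sylAdj (c i.castSucc) (c i.succ)) h ?_ ?_
  · exact ⟨0, fun _ => T, rfl, rfl, fun i => i.elim0⟩
  · intro a b hab _ ih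
    obtain ⟨n, c, h0, hl, hadj⟩ := ih
    refine ⟨n + 1, Fin.cons a c, ?_, ?_, ?_⟩
    · simp
    · rw [← Fin.succ_last, Fin.cons_succ]; exact hl
    · intro i
      refine Fin.cases ?_ ?_ i
      · simpa [h0] using hab
      · intro j
        have := hadj j
        rw [← Fin.succ_castSucc]
        simpa using this

theorem chainConnected_of_sylReach (h : ∀ S T : Sylow p G, sylReach S T) :
    Cfsg.IsSylowChainConnected p G := by
  intro S T
  by_cases hST : S = T
  · refine ⟨0, fun _ => S, rfl, hST, fun _ => inf_le_left, fun i => i.elim0⟩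
  by_cases hint : (S : Subgroup G) ⊓ (T : Subgroup G) = ⊥
  · obtain ⟨n, c, h0, hl, hadj⟩ := exists_chain_of_sylReach (h S T)
    refine ⟨n, c, h0, hl, fun i => ?_, fun i => hadj i⟩
    rw [hint]; exact bot_le
  · refine ⟨1, ![S, T], rfl, rfl, ?_, ?_⟩
    · intro i
      fin_cases i
      · exact inf_le_left
      · exact inf_le_right
    · intro i
      fin_cases i
      exact ⟨hST, hint⟩

end Graph

end Cfsg.Agent.Helper15
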