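import Mathlib
import Cfsg.Agent.Helper15.Quat
import Cfsg.Agent.Helper15.SE
import Cfsg.Agent.Helper16.Conj

/-!
Helper library (helper15): a `p`-subgroup all of whose abelian subgroups are cyclic has a unique
subgroup of order `p`, hence is cyclic or generalized quaternion.
-/

set_option autoImplicit false

namespace Cfsg.Agent.Helper15

/-- If every abelian subgroup of the `p`-subgroup `Q` is cyclic, then `Q` has at most one subgroup
of order `p`. -/
theorem unique_of_abelian_cyclic {G : Type*} [Group G] [Finite G] {p : ℕ} [Fact p.Prime]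
    (Q : Subgroup G) (hQ : IsPGroup p ↥Q)
    (hcyc : ∀ E : Subgroup G, E ≤ Q → IsMulCommutative ↥E → IsCyclic ↥E)
    (X Y : Subgroup G) (hXQ : X ≤ Q) (hYQ : Y ≤ Q) (hX : Nat.card X = p) (hY : Nat.card Y = p) :
    X = Y := by
  classical
  have hp : p.Prime := Fact.out
  have hXne : X ≠ ⊥ := by
    intro h
    rw [h, Subgroup.card_bot] at hX
    exact hp.one_lt.ne hX
  obtain ⟨x, hx, hx1⟩ := exists_ne_one_of_ne_bot hXne
  obtain ⟨z, hzQ, hz1, hzp, hzc⟩ : ∃ z : G, z ∈ Q ∧ z ≠ 1 ∧ z ^ p = 1 ∧ ∀ q ∈ Q, q * z = z * q := by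
    haveI : Nontrivial ↥Q := ⟨⟨⟨x, hXQ hx⟩, 1, fun h => hx1 (congrArg Subtype.val h)⟩⟩
    haveI := hQ.center_nontrivial
    obtain ⟨z', hz'⟩ := exists_ne (1 : Subgroup.center ↥Q)
    have hz'1 : (z' : ↥Q) ≠ 1 := fun h => hz' (Subtype.ext h)
    obtain ⟨k, hk⟩ := hQ (z' : ↥Q)
    obtain ⟨m, hm1, hmp⟩ := exists_pow_order_p hz'1 hk
    have hcen : (z' : ↥Q) ^ m ∈ Subgroup.center ↥Q := Subgroup.pow_mem _ z'.2 m
    refine ⟨(((z' : ↥Q) ^ m : ↥Q) : G), Subtype.property _, ?_, ?_, ?_⟩
    · intro h; exact hm1 (Subtype.ext h)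
    · have := congrArg Subtype.val hmp
      simpa using this
    · intro q hq
      have := Subgroup.mem_center_iff.mp hcen ⟨q, hq⟩
      exact congrArg Subtype.val this
  have key : ∀ W : Subgroup G, W ≤ Q → Nat.card W = p → W = Subgroup.zpowers z := by
    intro W hWQ hW
    have hWne : W ≠ ⊥ := by
      intro h
      rw [h, Subgroup.card_bot] at hW
      exact hp.one_lt.ne hW
    obtain ⟨w, hw, hw1⟩ := exists_ne_one_of_ne_bot hWne
    have hwp : w ^ p = 1 := by
      have h1 := pow_card_eq_one' (G := ↥W) (x := ⟨w, hw⟩)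
      rw [hW] at h1
      have := congrArg Subtype.val h1
      simpa using this
    have hwo : orderOf w = p := orderOf_eq_prime hwp hw1
    have hzo : orderOf z = p := orderOf_eq_prime hzp hz1
    have hWw : Subgroup.zpowers w = W :=
      Subgroup.eq_of_le_of_card_ge (Subgroup.zpowers_le.mpr hw) (by rw [Nat.card_zpowers, hwo, hW])
    have hcomm : ∀ a ∈ Subgroup.closure ({z, w} : Set G), ∀ b ∈ Subgroup.closure ({z, w} : Set G),
        a * b = b * a := by
      apply Cfsg.Agent.Helper16.closure_comm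
      intro a ha b hb
      rcases ha with rfl | rfl <;> rcases hb with rfl | rfl
      · rfl
      · exact (hzc b (hWQ hw)).symm
      · exact hzc a (hWQ hw)
      · rfl
    have hEQ : Subgroup.closure ({z, w} : Set G) ≤ Q := by
      rw [Subgroup.closure_le]
      rintro a (rfl | rfl)
      · exact hzQ
      · exact hWQ hw
    have hzE : z ∈ Subgroup.closure ({z, w} : Set G) := Subgroup.subset_closure (by simp)
    have hwE : w ∈ Subgroup.closure ({z, w} : Set G) := Subgroup.subset_closure (by simp)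
    have hEc : IsMulCommutative ↥(Subgroup.closure ({z, w} : Set G)) :=
      ⟨⟨fun a b => Subtype.ext (hcomm a a.2 b b.2)⟩⟩
    haveI hcycE : IsCyclic ↥(Subgroup.closure ({z, w} : Set G)) := hcyc _ hEQ hEc
    have h1 : Nat.card ((Subgroup.zpowers z).subgroupOf (Subgroup.closure ({z, w} : Set G))) = p := by
      rw [Nat.card_congr (Subgroup.subgroupOfEquivOfLe (Subgroup.zpowers_le.mpr hzE)).toEquiv,
        Nat.card_zpowers, hzo]
    have h2 : Nat.card ((Subgroup.zpowers w).subgroupOf (Subgroup.closure ({z, w} : Set G))) = p := by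
      rw [Nat.card_congr (Subgroup.subgroupOfEquivOfLe (Subgroup.zpowers_le.mpr hwE)).toEquiv,
        Nat.card_zpowers, hwo]
    have h3 := Cfsg.Agent.Helper23.eq_of_card_eq_of_isCyclic _ _ (h1.trans h2.symm)
    rw [Subgroup.subgroupOf_inj, inf_eq_left.mpr (Subgroup.zpowers_le.mpr hzE),
      inf_eq_left.mpr (Subgroup.zpowers_le.mpr hwE)] at h3
    rw [← hWw, h3]
  rw [key X hXQ hX, key Y hYQ hY]

/-- A `p`-subgroup all of whose abelian subgroups are cyclic is cyclic or generalized
quaternion. -/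
theorem cyclic_or_quaternion_of_abelian_cyclic {G : Type*} [Group G] [Finite G] {p : ℕ}
    [Fact p.Prime] (Q : Subgroup G) (hQ : IsPGroup p ↥Q)
    (hcyc : ∀ E : Subgroup G, E ≤ Q → IsMulCommutative ↥E → IsCyclic ↥E) :
    IsCyclic ↥Q ∨ (p = 2 ∧ ∃ n : ℕ, Nonempty (↥Q ≃* QuaternionGroup (2 ^ n))) := by
  apply cyclic_or_quaternion_of_unique p hQ
  intro X Y hX hY
  have h := unique_of_abelian_cyclic Q hQ hcyc (X.map Q.subtype) (Y.map Q.subtype)
    (Subgroup.map_subtype_le _) (Subgroup.map_subtype_le _)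
    (by rw [Subgroup.card_map_of_injective Q.subtype_injective]; exact hX)
    (by rw [Subgroup.card_map_of_injective Q.subtype_injective]; exact hY)
  exact Subgroup.map_injective Q.subtype_injective h

end Cfsg.Agent.Helper15
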