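import Mathlib
import Cfsg.Prelude.Def_Classical
import Cfsg.Prelude.Def_ClassicalGeometry
import Cfsg.Prelude.Def_GeometricClasses
import Cfsg.Agent.Helper15.SpQa

/-!
# Transitivity on fixed cosets (support for L7 of S5983)

`iso_of_sim` : a symplectic similarity of `Q` (polar form `sympForm`) is an isometry of `Q`.
`trans_cosets` : if `x ∈ Sp` fixes the cosets `g₁ H` and `g₂ H` (`H` the similarity group of `Q`), some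
symplectic transvection `t` commuting with `x` and fixing the kernel of `∑ i < r, x ^ i` pointwise maps
`g₂ H` to `g₁ H`.
-/

set_option autoImplicit false
open scoped MatrixGroups
open Cfsg

namespace Cfsg.Agent.Helper15.SpQg

open Matrix Cfsg.Agent.Helper15.SpQa

variable {F : Type*} [Field F] {d : ℕ}

theorem sf_sub_left (u u' v : Fin d ⊕ Fin d → F) :
    Cfsg.sympForm d F (u - u') v = Cfsg.sympForm d F u v - Cfsg.sympForm d F u' v := by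
  unfold Cfsg.sympForm
  rw [sub_dotProduct]

theorem sf_zero_left (v : Fin d ⊕ Fin d → F) : Cfsg.sympForm d F 0 v = 0 := by
  unfold Cfsg.sympForm
  rw [zero_dotProduct]

theorem exists_sf_ne (hd : 0 < d) :
    ∃ u v : Fin d ⊕ Fin d → F, Cfsg.sympForm d F u v ≠ 0 := by
  classical
  by_contra hcon
  push_neg at hcon
  have h0 : (Pi.single (Sum.inl ⟨0, hd⟩) 1 : Fin d ⊕ Fin d → F) = 0 :=
    sf_nondeg (fun v => hcon _ v)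
  have h1 := congrFun h0 (Sum.inl ⟨0, hd⟩)
  rw [Pi.single_eq_same, Pi.zero_apply] at h1
  exact one_ne_zero h1

/-- A symplectic similarity of `Q` is an isometry of `Q`. -/
theorem iso_of_sim (hd : 0 < d) (Q : (Fin d ⊕ Fin d → F) → F)
    (hpol : ∀ u v : Fin d ⊕ Fin d → F, Q (u + v) = Q u + Q v + Cfsg.sympForm d F u v)
    (y : GL (Fin d ⊕ Fin d) F) (hy : y ∈ Cfsg.spGL d F)
    (hys : y ∈ Cfsg.Geo.quadSimilarityGroup Q) (v : Fin d ⊕ Fin d → F) :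
    Q ((y : Matrix (Fin d ⊕ Fin d) (Fin d ⊕ Fin d) F) *ᵥ v) = Q v := by
  have hys' : ∃ c : Fˣ, ∀ v, Q ((y : Matrix (Fin d ⊕ Fin d) (Fin d ⊕ Fin d) F) *ᵥ v) =
      (c : F) * Q v := hys
  obtain ⟨c, hc⟩ := hys'
  obtain ⟨u₀, v₀, hne⟩ := exists_sf_ne (F := F) hd
  have h1 := hc (u₀ + v₀)
  rw [Matrix.mulVec_add, hpol, hpol, hc u₀, hc v₀] at h1
  have h2 : Cfsg.sympForm d F ((y : Matrix (Fin d ⊕ Fin d) (Fin d ⊕ Fin d) F) *ᵥ u₀)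
      ((y : Matrix (Fin d ⊕ Fin d) (Fin d ⊕ Fin d) F) *ᵥ v₀) = Cfsg.sympForm d F u₀ v₀ :=
    hy u₀ v₀
  rw [h2] at h1
  have h3 : ((c : F) - 1) * Cfsg.sympForm d F u₀ v₀ = 0 := by
    linear_combination (-1 : F) * h1
  have hc1 : (c : F) = 1 := by
    rcases mul_eq_zero.mp h3 with h | h
    · exact sub_eq_zero.mp h
    · exact absurd h hne
  rw [hc v, hc1, one_mul]

/-- Transitivity of the transvections centralising `x` on the cosets fixed by `x`. -/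
theorem trans_cosets [Fintype F] (hch : (2 : F) = 0) (hd : 0 < d)
    (Q : (Fin d ⊕ Fin d → F) → F)
    (hsm : ∀ (c : F) (v : Fin d ⊕ Fin d → F), Q (c • v) = c ^ 2 * Q v)
    (hpol : ∀ u v : Fin d ⊕ Fin d → F, Q (u + v) = Q u + Q v + Cfsg.sympForm d F u v)
    (hL5 : ∀ (Q' : (Fin d ⊕ Fin d → F) → F),
      (∀ (c : F) (v : Fin d ⊕ Fin d → F), Q' (c • v) = c ^ 2 * Q' v) →
      (∀ u v : Fin d ⊕ Fin d → F, Q' (u + v) = Q' u + Q' v + Cfsg.sympForm d F u v) →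
      ∀ h : GL (Fin d ⊕ Fin d) F, h ∈ Cfsg.spGL d F → ∀ b : Fin d ⊕ Fin d → F,
      (∀ v, Q' ((h : Matrix (Fin d ⊕ Fin d) (Fin d ⊕ Fin d) F) *ᵥ v) =
        Q' v + (Cfsg.sympForm d F b v) ^ 2) →
      ∃ w : F, w ^ 2 + w = Q' b)
    (x : GL (Fin d ⊕ Fin d) F) (hx : x ∈ Cfsg.spGL d F) (r : ℕ) (hr1 : (r : F) = 1)
    (g₁ g₂ : GL (Fin d ⊕ Fin d) F) (hg₁ : g₁ ∈ Cfsg.spGL d F) (hg₂ : g₂ ∈ Cfsg.spGL d F)
    (h₁ : g₁⁻¹ * x * g₁ ∈ Cfsg.Geo.quadSimilarityGroup Q)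
    (h₂ : g₂⁻¹ * x * g₂ ∈ Cfsg.Geo.quadSimilarityGroup Q) :
    ∃ t : GL (Fin d ⊕ Fin d) F, t ∈ Cfsg.spGL d F ∧ t * x = x * t ∧
      (∀ v, (∑ i ∈ Finset.range r, (x : Matrix (Fin d ⊕ Fin d) (Fin d ⊕ Fin d) F) ^ i) *ᵥ v = 0 →
        (t : Matrix (Fin d ⊕ Fin d) (Fin d ⊕ Fin d) F) *ᵥ v = v) ∧
      g₁⁻¹ * t * g₂ ∈ Cfsg.Geo.quadSimilarityGroup Q := by
  classical
  have hx' : ∀ u v, Cfsg.sympForm d F
      ((x : Matrix (Fin d ⊕ Fin d) (Fin d ⊕ Fin d) F) *ᵥ u)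
      ((x : Matrix (Fin d ⊕ Fin d) (Fin d ⊕ Fin d) F) *ᵥ v) = Cfsg.sympForm d F u v := hx
  have key : ∀ g : GL (Fin d ⊕ Fin d) F, g ∈ Cfsg.spGL d F →
      g⁻¹ * x * g ∈ Cfsg.Geo.quadSimilarityGroup Q →
      (∀ (c : F) (v : Fin d ⊕ Fin d → F),
        Q (((g⁻¹ : GL (Fin d ⊕ Fin d) F) : Matrix (Fin d ⊕ Fin d) (Fin d ⊕ Fin d) F) *ᵥ (c • v)) =
          c ^ 2 * Q (((g⁻¹ : GL (Fin d ⊕ Fin d) F) : Matrix (Fin d ⊕ Fin d) (Fin d ⊕ Fin d) F) *ᵥ v)) ∧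
      (∀ u v : Fin d ⊕ Fin d → F,
        Q (((g⁻¹ : GL (Fin d ⊕ Fin d) F) : Matrix (Fin d ⊕ Fin d) (Fin d ⊕ Fin d) F) *ᵥ (u + v)) =
          Q (((g⁻¹ : GL (Fin d ⊕ Fin d) F) : Matrix (Fin d ⊕ Fin d) (Fin d ⊕ Fin d) F) *ᵥ u) +
          Q (((g⁻¹ : GL (Fin d ⊕ Fin d) F) : Matrix (Fin d ⊕ Fin d) (Fin d ⊕ Fin d) F) *ᵥ v) +
          Cfsg.sympForm d F u v) ∧
      (∀ v : Fin d ⊕ Fin d → F,
        Q (((g⁻¹ : GL (Fin d ⊕ Fin d) F) : Matrix (Fin d ⊕ Fin d) (Fin d ⊕ Fin d) F) *ᵥ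
          ((x : Matrix (Fin d ⊕ Fin d) (Fin d ⊕ Fin d) F) *ᵥ v)) =
          Q (((g⁻¹ : GL (Fin d ⊕ Fin d) F) : Matrix (Fin d ⊕ Fin d) (Fin d ⊕ Fin d) F) *ᵥ v)) := by
    intro g hg hgx
    have hgi : ∀ u v, Cfsg.sympForm d F
        (((g⁻¹ : GL (Fin d ⊕ Fin d) F) : Matrix (Fin d ⊕ Fin d) (Fin d ⊕ Fin d) F) *ᵥ u)
        (((g⁻¹ : GL (Fin d ⊕ Fin d) F) : Matrix (Fin d ⊕ Fin d) (Fin d ⊕ Fin d) F) *ᵥ v) =
        Cfsg.sympForm d F u v := (Cfsg.spGL d F).inv_mem hg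
    refine ⟨fun c v => ?_, fun u v => ?_, fun v => ?_⟩
    · rw [Matrix.mulVec_smul, hsm]
    · rw [Matrix.mulVec_add, hpol, hgi]
    · have hy : g⁻¹ * x * g ∈ Cfsg.spGL d F := mul_mem (mul_mem (inv_mem hg) hx) hg
      have h1 := iso_of_sim hd Q hpol (g⁻¹ * x * g) hy hgx
        (((g⁻¹ : GL (Fin d ⊕ Fin d) F) : Matrix (Fin d ⊕ Fin d) (Fin d ⊕ Fin d) F) *ᵥ v)
      have e : g⁻¹ * x * g * g⁻¹ = g⁻¹ * x := by group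
      have h2 : ((g⁻¹ * x * g : GL (Fin d ⊕ Fin d) F) :
          Matrix (Fin d ⊕ Fin d) (Fin d ⊕ Fin d) F) *ᵥ
          (((g⁻¹ : GL (Fin d ⊕ Fin d) F) : Matrix (Fin d ⊕ Fin d) (Fin d ⊕ Fin d) F) *ᵥ v) =
          ((g⁻¹ : GL (Fin d ⊕ Fin d) F) : Matrix (Fin d ⊕ Fin d) (Fin d ⊕ Fin d) F) *ᵥ
            ((x : Matrix (Fin d ⊕ Fin d) (Fin d ⊕ Fin d) F) *ᵥ v) := by
        rw [Matrix.mulVec_mulVec, Matrix.mulVec_mulVec, ← Units.val_mul, ← Units.val_mul, e]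
      rw [h2] at h1
      exact h1
  obtain ⟨hsm1, hpol1, hinv1⟩ := key g₁ hg₁ h₁
  obtain ⟨hsm2, hpol2, hinv2⟩ := key g₂ hg₂ h₂
  obtain ⟨b, hb⟩ := exists_diff hch
    (fun v => Q (((g₁⁻¹ : GL (Fin d ⊕ Fin d) F) : Matrix (Fin d ⊕ Fin d) (Fin d ⊕ Fin d) F) *ᵥ v))
    (fun v => Q (((g₂⁻¹ : GL (Fin d ⊕ Fin d) F) : Matrix (Fin d ⊕ Fin d) (Fin d ⊕ Fin d) F) *ᵥ v))
    hsm1 hpol1 hsm2 hpol2
  have hb' : ∀ v : Fin d ⊕ Fin d → F,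
      Q (((g₂⁻¹ : GL (Fin d ⊕ Fin d) F) : Matrix (Fin d ⊕ Fin d) (Fin d ⊕ Fin d) F) *ᵥ v) =
      Q (((g₁⁻¹ : GL (Fin d ⊕ Fin d) F) : Matrix (Fin d ⊕ Fin d) (Fin d ⊕ Fin d) F) *ᵥ v) +
        (Cfsg.sympForm d F b v) ^ 2 := hb
  have hbx : ∀ v, Cfsg.sympForm d F b
      ((x : Matrix (Fin d ⊕ Fin d) (Fin d ⊕ Fin d) F) *ᵥ v) = Cfsg.sympForm d F b v := by
    intro v
    apply sq_inj_of_two hch
    have e1 := hb' ((x : Matrix (Fin d ⊕ Fin d) (Fin d ⊕ Fin d) F) *ᵥ v)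
    rw [hinv1, hinv2, hb' v] at e1
    linear_combination (-1 : F) * e1
  have hxb : (x : Matrix (Fin d ⊕ Fin d) (Fin d ⊕ Fin d) F) *ᵥ b = b := by
    have h0 : (x : Matrix (Fin d ⊕ Fin d) (Fin d ⊕ Fin d) F) *ᵥ b - b = 0 := by
      apply sf_nondeg
      intro v'
      obtain ⟨u, rfl⟩ : ∃ u, v' = (x : Matrix (Fin d ⊕ Fin d) (Fin d ⊕ Fin d) F) *ᵥ u :=
        ⟨((x⁻¹ : GL (Fin d ⊕ Fin d) F) : Matrix (Fin d ⊕ Fin d) (Fin d ⊕ Fin d) F) *ᵥ v', by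
          rw [Matrix.mulVec_mulVec, ← Units.val_mul, mul_inv_cancel, Units.val_one,
            Matrix.one_mulVec]⟩
      rw [sf_sub_left, hx', hbx, sub_self]
    exact sub_eq_zero.mp h0
  have hxb2 : ∀ u, Cfsg.sympForm d F
      ((x : Matrix (Fin d ⊕ Fin d) (Fin d ⊕ Fin d) F) *ᵥ u) b = Cfsg.sympForm d F u b := by
    intro u
    have h := hx' u b
    rw [hxb] at h
    exact h
  have hw : ∃ w : F, w ^ 2 + w =
      Q (((g₁⁻¹ : GL (Fin d ⊕ Fin d) F) : Matrix (Fin d ⊕ Fin d) (Fin d ⊕ Fin d) F) *ᵥ b) := by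
    refine hL5
      (fun v => Q (((g₁⁻¹ : GL (Fin d ⊕ Fin d) F) : Matrix (Fin d ⊕ Fin d) (Fin d ⊕ Fin d) F) *ᵥ v))
      hsm1 hpol1 (g₁ * g₂⁻¹) (mul_mem hg₁ (inv_mem hg₂)) b (fun v => ?_)
    show Q (((g₁⁻¹ : GL (Fin d ⊕ Fin d) F) : Matrix (Fin d ⊕ Fin d) (Fin d ⊕ Fin d) F) *ᵥ
        (((g₁ * g₂⁻¹ : GL (Fin d ⊕ Fin d) F) : Matrix (Fin d ⊕ Fin d) (Fin d ⊕ Fin d) F) *ᵥ v)) =
      Q (((g₁⁻¹ : GL (Fin d ⊕ Fin d) F) : Matrix (Fin d ⊕ Fin d) (Fin d ⊕ Fin d) F) *ᵥ v) +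
        (Cfsg.sympForm d F b v) ^ 2
    have e : g₁⁻¹ * (g₁ * g₂⁻¹) = g₂⁻¹ := by group
    rw [Matrix.mulVec_mulVec, ← Units.val_mul, e]
    exact hb' v
  obtain ⟨t, c, ht, htv, htQ⟩ := reach hch
    (fun v => Q (((g₁⁻¹ : GL (Fin d ⊕ Fin d) F) : Matrix (Fin d ⊕ Fin d) (Fin d ⊕ Fin d) F) *ᵥ v))
    hsm1 hpol1 b hw
  have htQ' : ∀ v : Fin d ⊕ Fin d → F,
      Q (((g₁⁻¹ : GL (Fin d ⊕ Fin d) F) : Matrix (Fin d ⊕ Fin d) (Fin d ⊕ Fin d) F) *ᵥ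
        ((t : Matrix (Fin d ⊕ Fin d) (Fin d ⊕ Fin d) F) *ᵥ v)) =
      Q (((g₁⁻¹ : GL (Fin d ⊕ Fin d) F) : Matrix (Fin d ⊕ Fin d) (Fin d ⊕ Fin d) F) *ᵥ v) +
        (Cfsg.sympForm d F b v) ^ 2 := htQ
  refine ⟨t, ht, ?_, ?_, ?_⟩
  · apply Units.ext
    rw [Units.val_mul, Units.val_mul]
    apply Matrix.toLin'.injective
    apply LinearMap.ext
    intro v
    rw [Matrix.toLin'_apply, Matrix.toLin'_apply, ← Matrix.mulVec_mulVec, ← Matrix.mulVec_mulVec,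
      htv, htv, hxb2, Matrix.mulVec_add, Matrix.mulVec_smul, hxb]
  · intro v hv
    have hpow : ∀ (n : ℕ) (u : Fin d ⊕ Fin d → F), Cfsg.sympForm d F
        (((x : Matrix (Fin d ⊕ Fin d) (Fin d ⊕ Fin d) F) ^ n) *ᵥ u) b = Cfsg.sympForm d F u b := by
      intro n
      induction n with
      | zero =>
        intro u
        rw [pow_zero, Matrix.one_mulVec]
      | succ n ih =>
        intro u
        rw [pow_succ, ← Matrix.mulVec_mulVec, ih, hxb2]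
    have hsum : ∀ n : ℕ, Cfsg.sympForm d F
        ((∑ i ∈ Finset.range n, (x : Matrix (Fin d ⊕ Fin d) (Fin d ⊕ Fin d) F) ^ i) *ᵥ v) b =
        (n : F) * Cfsg.sympForm d F v b := by
      intro n
      induction n with
      | zero =>
        rw [Finset.sum_range_zero, Matrix.zero_mulVec, sf_zero_left, Nat.cast_zero, zero_mul]
      | succ n ih =>
        rw [Finset.sum_range_succ, Matrix.add_mulVec, sf_add_left, ih, hpow, Nat.cast_succ]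
        ring
    have h0 := hsum r
    rw [hv, sf_zero_left, hr1, one_mul] at h0
    rw [htv, ← h0, mul_zero, zero_smul, add_zero]
  · show ∃ c : Fˣ, ∀ v, Q (((g₁⁻¹ * t * g₂ : GL (Fin d ⊕ Fin d) F) :
        Matrix (Fin d ⊕ Fin d) (Fin d ⊕ Fin d) F) *ᵥ v) = (c : F) * Q v
    refine ⟨1, fun v => ?_⟩
    rw [Units.val_one, one_mul]
    have e1 : ((g₁⁻¹ * t * g₂ : GL (Fin d ⊕ Fin d) F) :
        Matrix (Fin d ⊕ Fin d) (Fin d ⊕ Fin d) F) *ᵥ v =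
        ((g₁⁻¹ : GL (Fin d ⊕ Fin d) F) : Matrix (Fin d ⊕ Fin d) (Fin d ⊕ Fin d) F) *ᵥ
          ((t : Matrix (Fin d ⊕ Fin d) (Fin d ⊕ Fin d) F) *ᵥ
            ((g₂ : Matrix (Fin d ⊕ Fin d) (Fin d ⊕ Fin d) F) *ᵥ v)) := by
      simp only [Units.val_mul, Matrix.mulVec_mulVec, Matrix.mul_assoc]
    rw [e1, htQ', ← hb', Matrix.mulVec_mulVec, ← Units.val_mul, inv_mul_cancel, Units.val_one,
      Matrix.one_mulVec]

end Cfsg.Agent.Helper15.SpQg
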