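import Mathlib

set_option autoImplicit false

/-!
Subnormality of `p`-subgroups: tools for Casolo's subnormalizer count.
`cj x Q = x Q x⁻¹`; `sub_iff`: a `p`-subgroup `H` is subnormal in `⟨H, g⟩` iff some `g`-invariant
`p`-subgroup contains `H`; relative Sylow interface `IsSyl`; a Moebius function on the subgroup lattice
(`exists_mob`) with a Weisner-type vanishing lemma (`cone_sum`); orbit counting (`count_lemma`).
-/

namespace Cfsg.Agent.Helper15.Subn

variable {G : Type*} [Group G]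

instance finite_subgroup' [Finite G] : Finite (Subgroup G) :=
  Finite.of_injective (fun H : Subgroup G => (H : Set G)) SetLike.coe_injective

/-- conjugate subgroup `x Q x⁻¹` -/
def cj (x : G) (Q : Subgroup G) : Subgroup G := Q.map (MulAut.conj x).toMonoidHom

theorem mem_cj {x y : G} {Q : Subgroup G} : y ∈ cj x Q ↔ x⁻¹ * y * x ∈ Q := by
  unfold cj
  rw [Subgroup.mem_map_equiv, MulAut.conj_symm_apply]

theorem cj_mul (x y : G) (Q : Subgroup G) : cj x (cj y Q) = cj (x * y) Q := by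
  ext z
  simp only [mem_cj, mul_inv_rev, mul_assoc]

theorem cj_one (Q : Subgroup G) : cj 1 Q = Q := by
  ext z; simp [mem_cj]

theorem cj_mono {x : G} {Q Q' : Subgroup G} (h : Q ≤ Q') : cj x Q ≤ cj x Q' := Subgroup.map_mono h

theorem cj_le {x : G} {Q K : Subgroup G} (hx : x ∈ K) (hQ : Q ≤ K) : cj x Q ≤ K := by
  intro y hy
  rw [mem_cj] at hy
  have h1 := hQ hy
  have e : y = x * (x⁻¹ * y * x) * x⁻¹ := by group
  rw [e]
  exact K.mul_mem (K.mul_mem hx h1) (K.inv_mem hx)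

theorem cj_pg {p : ℕ} {x : G} {Q : Subgroup G} (h : IsPGroup p Q) : IsPGroup p (cj x Q) := h.map _

theorem cj_eq_iff {x : G} {Q : Subgroup G} :
    cj x Q = Q ↔ x ∈ Subgroup.normalizer (Q : Set G) := by
  rw [Subgroup.mem_normalizer_iff'']
  constructor
  · intro h y
    rw [← mem_cj, h]
  · intro h
    ext y
    rw [mem_cj]
    exact (h y).symm

theorem le_cj_iff {x : G} {Q R : Subgroup G} : Q ≤ cj x R ↔ cj x⁻¹ Q ≤ R := by
  constructor
  · intro h y hy
    rw [mem_cj, inv_inv] at hy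
    have h1 := h hy
    rw [mem_cj] at h1
    have e : x⁻¹ * (x * y * x⁻¹) * x = y := by group
    rwa [e] at h1
  · intro h y hy
    rw [mem_cj]
    apply h
    rw [mem_cj, inv_inv]
    have e : x * (x⁻¹ * y * x) * x⁻¹ = y := by group
    rwa [e]

open scoped Pointwise in
theorem smul_eq_cj (g : G) (Q : Subgroup G) : MulAut.conj g • Q = cj g Q := by
  ext y
  rw [Subgroup.mem_pointwise_smul_iff_inv_smul_mem, mem_cj, MulAut.smul_def, MulAut.conj_inv_apply]

/-- every subgroup of a finite `p`-group is subnormal -/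
theorem pgroup_subnormal {L : Type*} [Group L] [Finite L] {p : ℕ} [Fact p.Prime] (hL : IsPGroup p L)
    (A : Subgroup L) : A.IsSubnormal := by
  have hnil := hL.isNilpotent
  have hnc : NormalizerCondition L := Group.normalizerCondition_of_isNilpotent
  induction A using WellFoundedGT.induction with
  | ind A ih =>
    by_cases hA : A = ⊤
    · rw [hA]; exact Subgroup.IsSubnormal.top
    · have h1 : A < Subgroup.normalizer (A : Set L) := hnc A (lt_top_iff_ne_top.mpr hA)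
      exact Subgroup.IsSubnormal.step A _ h1.le (ih _ h1) inferInstance

/-- a normal `p`-subgroup of a subnormal subgroup lies in a normal `p`-subgroup -/
theorem le_normal_pgroup {L : Type*} [Group L] [Finite L] {p : ℕ} [Fact p.Prime] {A : Subgroup L}
    (hA : A.IsSubnormal) : ∀ M : Subgroup L, M ≤ A → IsPGroup p M →
      A ≤ Subgroup.normalizer (M : Set L) →
      ∃ M' : Subgroup L, M ≤ M' ∧ IsPGroup p M' ∧ M'.Normal := by
  induction hA with
  | top =>
    intro M _ hM hN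
    exact ⟨M, le_rfl, hM, Subgroup.normalizer_eq_top_iff.mp (top_le_iff.mp hN)⟩
  | step A B hAB hB hN ih =>
    intro M hMA hM hAM
    have hBN : B ≤ Subgroup.normalizer (A : Set L) :=
      (Subgroup.normal_subgroupOf_iff_le_normalizer hAB).mp hN
    let S : Set (Subgroup L) :=
      {X | X ≤ A ∧ IsPGroup p X ∧ A ≤ Subgroup.normalizer (X : Set L)}
    obtain ⟨M₀, hMM₀, hmax⟩ :=
      (Set.toFinite S).exists_le_maximal (show M ∈ S from ⟨hMA, hM, hAM⟩)
    have hM₀ : M₀ ∈ S := hmax.prop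
    have hgreat : ∀ X ∈ S, X ≤ M₀ := by
      intro X hX
      have h1 : X ⊔ M₀ ∈ S := by
        refine ⟨sup_le hX.1 hM₀.1, ?_, ?_⟩
        · exact IsPGroup.to_sup_of_normal_right' hX.2.1 hM₀.2.1 (hX.1.trans hM₀.2.2)
        · intro a ha
          rw [← cj_eq_iff]
          have e1 : cj a X = X := cj_eq_iff.mpr (hX.2.2 ha)
          have e2 : cj a M₀ = M₀ := cj_eq_iff.mpr (hM₀.2.2 ha)
          unfold cj at e1 e2 ⊢
          rw [Subgroup.map_sup, e1, e2]
      have h3 := hmax.le_of_ge h1 le_sup_right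
      exact le_sup_left.trans h3
    have hconj : ∀ b ∈ B, cj b M₀ ∈ S := by
      intro b hb
      have hbA : b ∈ Subgroup.normalizer (A : Set L) := hBN hb
      refine ⟨?_, cj_pg hM₀.2.1, ?_⟩
      · calc cj b M₀ ≤ cj b A := cj_mono hM₀.1
          _ = A := cj_eq_iff.mpr hbA
      · intro a ha
        rw [← cj_eq_iff, cj_mul]
        have ha' : b⁻¹ * a * b ∈ A := ((Subgroup.mem_normalizer_iff'').mp hbA a).mp ha
        have e : a * b = b * (b⁻¹ * a * b) := by group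
        rw [e, ← cj_mul, cj_eq_iff.mpr (hM₀.2.2 ha')]
    have hBM₀ : B ≤ Subgroup.normalizer (M₀ : Set L) := by
      intro b hb
      rw [← cj_eq_iff]
      apply le_antisymm (hgreat _ (hconj b hb))
      rw [le_cj_iff]
      exact hgreat _ (hconj b⁻¹ (B.inv_mem hb))
    obtain ⟨M', h1, h2, h3⟩ := ih M₀ (hM₀.1.trans hAB) hM₀.2.1 hBM₀
    exact ⟨M', hMM₀.trans h1, h2, h3⟩

theorem inv_of_sub [Finite G] {p : ℕ} [Fact p.Prime] {H K : Subgroup G} (hH : IsPGroup p H)
    (hHK : H ≤ K) {g : G} (hgK : g ∈ K) (hsn : (H.subgroupOf K).IsSubnormal) :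
    ∃ M : Subgroup G, IsPGroup p M ∧ H ≤ M ∧ g ∈ Subgroup.normalizer (M : Set G) := by
  obtain ⟨M', h1, h2, h3⟩ := le_normal_pgroup (p := p) hsn (H.subgroupOf K) le_rfl
    hH.comap_subtype Subgroup.le_normalizer
  refine ⟨M'.map K.subtype, h2.map _, ?_, ?_⟩
  · intro h hh
    exact Subgroup.mem_map.mpr ⟨⟨h, hHK hh⟩, h1 (Subgroup.mem_subgroupOf.mpr hh), rfl⟩
  · rw [Subgroup.mem_normalizer_iff]
    intro y
    constructor
    · intro hy
      obtain ⟨m, hm, rfl⟩ := Subgroup.mem_map.mp hy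
      exact Subgroup.mem_map.mpr ⟨⟨g, hgK⟩ * m * ⟨g, hgK⟩⁻¹, h3.conj_mem m hm _, by simp⟩
    · intro hy
      obtain ⟨m, hm, hmy⟩ := Subgroup.mem_map.mp hy
      refine Subgroup.mem_map.mpr ⟨⟨g, hgK⟩⁻¹ * m * ⟨g, hgK⟩, ?_, ?_⟩
      · have h4 := h3.conj_mem m hm (⟨g, hgK⟩⁻¹)
        simpa using h4
      · have e : (m : G) = g * y * g⁻¹ := hmy
        simp only [Subgroup.coe_subtype, Subgroup.coe_mul, Subgroup.coe_inv, e]
        group

theorem sub_of_inv [Finite G] {p : ℕ} [Fact p.Prime] {H K M : Subgroup G}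
    (hHK : H ≤ K) (hKN : K ≤ Subgroup.normalizer (M : Set G)) (hM : IsPGroup p M) (hHM : H ≤ M) :
    (H.subgroupOf K).IsSubnormal := by
  have hRK : M ⊓ K ≤ K := inf_le_right
  have hRn : ((M ⊓ K).subgroupOf K).Normal := by
    rw [Subgroup.normal_subgroupOf_iff_le_normalizer hRK]
    exact (le_inf hKN Subgroup.le_normalizer).trans Subgroup.inf_normalizer_le_normalizer_inf
  have hRsn : ((M ⊓ K).subgroupOf K).IsSubnormal := hRn.isSubnormal
  have hHR : H.subgroupOf K ≤ (M ⊓ K).subgroupOf K := Subgroup.comap_mono (le_inf hHM hHK)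
  have hRp : IsPGroup p ((M ⊓ K).subgroupOf K) := (hM.to_le inf_le_left).comap_subtype
  exact Subgroup.IsSubnormal.trans hHR (pgroup_subnormal hRp _) hRsn

/-- a `p`-subgroup `H` is subnormal in `⟨H, g⟩` iff some `g`-invariant `p`-subgroup contains `H` -/
theorem sub_iff [Finite G] {p : ℕ} [Fact p.Prime] {H : Subgroup G} (hH : IsPGroup p H) (g : G) :
    (H.subgroupOf (H ⊔ Subgroup.zpowers g)).IsSubnormal ↔
      ∃ M : Subgroup G, IsPGroup p M ∧ H ≤ M ∧ g ∈ Subgroup.normalizer (M : Set G) := by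
  constructor
  · intro hsn
    exact inv_of_sub hH le_sup_left
      ((le_sup_right : Subgroup.zpowers g ≤ H ⊔ Subgroup.zpowers g) (Subgroup.mem_zpowers g)) hsn
  · rintro ⟨M, hM, hHM, hgM⟩
    refine sub_of_inv le_sup_left (sup_le (hHM.trans Subgroup.le_normalizer) ?_) hM hHM
    rw [Subgroup.zpowers_le]; exact hgM

/-- normalizers grow in finite `p`-groups -/
theorem norm_grow [Finite G] {p : ℕ} [Fact p.Prime] {H R : Subgroup G} (hR : IsPGroup p R)
    (h : H < R) : H < Subgroup.normalizer (H : Set G) ⊓ R := by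
  have hnil := hR.isNilpotent
  have hnc : NormalizerCondition R := Group.normalizerCondition_of_isNilpotent
  have h1 : H.subgroupOf R < ⊤ := by
    rw [lt_top_iff_ne_top, Ne, Subgroup.subgroupOf_eq_top]
    exact not_le_of_gt h
  have h2 := hnc _ h1
  rw [← Subgroup.subgroupOf_normalizer_eq h.le] at h2
  obtain ⟨-, r, hr, hr'⟩ := SetLike.lt_iff_le_and_exists.mp h2
  refine SetLike.lt_iff_le_and_exists.mpr ⟨le_inf Subgroup.le_normalizer h.le, (r : G), ?_, ?_⟩
  · exact Subgroup.mem_inf.mpr ⟨Subgroup.mem_subgroupOf.mp hr, r.2⟩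
  · exact fun hh => hr' (Subgroup.mem_subgroupOf.mpr hh)

/-- `P` is a Sylow `p`-subgroup of `K` (a maximal `p`-subgroup of `K`) -/
def IsSyl (p : ℕ) (K P : Subgroup G) : Prop :=
  P ≤ K ∧ IsPGroup p P ∧ ∀ Q : Subgroup G, IsPGroup p Q → Q ≤ K → P ≤ Q → Q = P

theorem sylOf {p : ℕ} [Fact p.Prime] {K : Subgroup G} (P' : Sylow p K) :
    IsSyl p K ((P' : Subgroup K).map K.subtype) := by
  refine ⟨Subgroup.map_subtype_le _, P'.isPGroup'.map _, ?_⟩
  intro Q hQ hQK hPQ
  have h1 : (P' : Subgroup K) ≤ Q.subgroupOf K := Subgroup.map_le_iff_le_comap.mp hPQ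
  have h2 : Q.subgroupOf K = P' := P'.is_maximal' hQ.comap_subtype h1
  rw [← h2, Subgroup.map_subgroupOf_eq_of_le hQK]

theorem syl_eq [Finite G] {p : ℕ} [Fact p.Prime] {K P : Subgroup G} (hP : IsSyl p K P) :
    ∃ P' : Sylow p K, P = (P' : Subgroup K).map K.subtype := by
  obtain ⟨P', hP'⟩ := (hP.2.1.comap_subtype (K := K)).exists_le_sylow
  refine ⟨P', ?_⟩
  have h1 : P ≤ (P' : Subgroup K).map K.subtype := by
    rw [← Subgroup.map_subgroupOf_eq_of_le hP.1]
    exact Subgroup.map_mono hP'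
  exact (hP.2.2 _ (P'.isPGroup'.map _) (Subgroup.map_subtype_le _) h1).symm

theorem syl_exists [Finite G] (p : ℕ) [Fact p.Prime] (K : Subgroup G) : ∃ P, IsSyl p K P := by
  obtain ⟨P'⟩ : Nonempty (Sylow p K) := inferInstance
  exact ⟨_, sylOf P'⟩

theorem syl_conj [Finite G] {p : ℕ} [Fact p.Prime] {K P H : Subgroup G} (hP : IsSyl p K P)
    (hH : IsPGroup p H) (hHK : H ≤ K) : ∃ x ∈ K, H ≤ cj x P := by
  obtain ⟨P', rfl⟩ := syl_eq hP
  obtain ⟨Q', hQ'⟩ := (hH.comap_subtype (K := K)).exists_le_sylow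
  obtain ⟨k, hk⟩ := MulAction.exists_smul_eq K P' Q'
  refine ⟨k, k.2, ?_⟩
  intro h hh
  have h1 : (⟨h, hHK hh⟩ : K) ∈ (Q' : Subgroup K) := hQ' (Subgroup.mem_subgroupOf.mpr hh)
  rw [← hk, Sylow.coe_subgroup_smul, smul_eq_cj, mem_cj] at h1
  rw [mem_cj]
  exact Subgroup.mem_map.mpr ⟨_, h1, by simp⟩

theorem syl_cj {p : ℕ} {K P : Subgroup G} (hP : IsSyl p K P) {x : G} (hx : x ∈ K) :
    IsSyl p K (cj x P) := by
  refine ⟨cj_le hx hP.1, cj_pg hP.2.1, ?_⟩
  intro Q hQ hQK hPQ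
  have h1 : P ≤ cj x⁻¹ Q := by
    rw [le_cj_iff, inv_inv]; exact hPQ
  have h2 := hP.2.2 _ (cj_pg hQ) (cj_le (K.inv_mem hx) hQK) h1
  rw [← h2, cj_mul, mul_inv_cancel, cj_one]

open Classical in
/-- a Moebius function on the subgroup lattice, based at `H` -/
theorem exists_mob [Finite G] (H : Subgroup G) : ∃ m : Subgroup G → ℤ,
    ∀ (s : Finset (Subgroup G)) (D : Subgroup G), (∀ Q, Q ∈ s ↔ H ≤ Q ∧ Q ≤ D) →
      ∑ Q ∈ s, m Q = if H = D then 1 else 0 := by
  letI : Fintype (Subgroup G) := Fintype.ofFinite _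
  letI : LocallyFiniteOrder (Subgroup G) := Fintype.toLocallyFiniteOrder
  refine ⟨fun Q => IncidenceAlgebra.mu ℤ H Q, fun s D hs => ?_⟩
  have h1 : s = Finset.Icc H D := by
    ext Q; rw [hs, Finset.mem_Icc]
  rw [h1]
  exact IncidenceAlgebra.sum_Icc_mu_right (𝕜 := ℤ) H D

open Classical in
/-- Weisner-type vanishing: the Moebius sum over a lower set with a cone point vanishes -/
theorem cone_sum (m : Subgroup G → ℤ) (H : Subgroup G) [Finite G]
    (hm : ∀ (s : Finset (Subgroup G)) (D : Subgroup G), (∀ Q, Q ∈ s ↔ H ≤ Q ∧ Q ≤ D) →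
      ∑ Q ∈ s, m Q = if H = D then 1 else 0)
    (𝒟 : Finset (Subgroup G)) (D₀ : Subgroup G) (hD₀ : H < D₀)
    (hge : ∀ Q ∈ 𝒟, H ≤ Q)
    (hlow : ∀ Q ∈ 𝒟, ∀ Q', H ≤ Q' → Q' ≤ Q → Q' ∈ 𝒟)
    (hcone : ∀ Q ∈ 𝒟, Q ⊔ D₀ ∈ 𝒟) : ∑ Q ∈ 𝒟, m Q = 0 := by
  have key : ∀ E : Subgroup G, E ∈ 𝒟 → D₀ ≤ E →
      ∑ Q ∈ 𝒟.filter (fun Q => Q ⊔ D₀ = E), m Q = 0 := by
    intro E
    induction E using WellFoundedLT.induction with
    | ind E ih =>
      intro hE hDE
      have hne : H ≠ E := fun h => absurd hDE (by rw [← h]; exact not_le_of_gt hD₀)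
      have h1 : ∑ Q ∈ 𝒟.filter (fun Q => Q ≤ E), m Q = 0 := by
        have h0 := hm (𝒟.filter (fun Q => Q ≤ E)) E (by
          intro Q
          rw [Finset.mem_filter]
          constructor
          · rintro ⟨h1, h2⟩; exact ⟨hge Q h1, h2⟩
          · rintro ⟨h1, h2⟩; exact ⟨hlow E hE Q h1 h2, h2⟩)
        rw [if_neg hne] at h0
        exact h0
      have h2 : ∑ E' ∈ 𝒟.filter (fun E' => D₀ ≤ E' ∧ E' ≤ E),
          ∑ Q ∈ (𝒟.filter (fun Q => Q ≤ E)).filter (fun Q => Q ⊔ D₀ = E'), m Q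
          = ∑ Q ∈ 𝒟.filter (fun Q => Q ≤ E), m Q := by
        apply Finset.sum_fiberwise_of_maps_to
        intro Q hQ
        rw [Finset.mem_filter] at hQ ⊢
        exact ⟨hcone Q hQ.1, le_sup_right, sup_le hQ.2 hDE⟩
      rw [h1] at h2
      rw [Finset.sum_eq_single E] at h2
      · refine Eq.trans (Finset.sum_congr ?_ (fun _ _ => rfl)) h2
        ext Q
        simp only [Finset.mem_filter]
        constructor
        · rintro ⟨h1, h2⟩; exact ⟨⟨h1, by rw [← h2]; exact le_sup_left⟩, h2⟩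
        · rintro ⟨⟨h1, _⟩, h2⟩; exact ⟨h1, h2⟩
      · intro E' hE' hne'
        rw [Finset.mem_filter] at hE'
        have hlt : E' < E := lt_of_le_of_ne hE'.2.2 hne'
        refine Eq.trans (Finset.sum_congr ?_ (fun _ _ => rfl)) (ih E' hlt hE'.1 hE'.2.1)
        ext Q
        simp only [Finset.mem_filter]
        constructor
        · rintro ⟨⟨h1, _⟩, h2⟩; exact ⟨h1, h2⟩
        · rintro ⟨h1, h2⟩
          exact ⟨⟨h1, (le_sup_left : Q ≤ Q ⊔ D₀).trans (by rw [h2]; exact hE'.2.2)⟩, h2⟩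
      · intro hE'
        exact absurd (Finset.mem_filter.mpr ⟨hE, hDE, le_rfl⟩) hE'
  have h3 : ∑ E ∈ 𝒟.filter (fun E => D₀ ≤ E), ∑ Q ∈ 𝒟.filter (fun Q => Q ⊔ D₀ = E), m Q
      = ∑ Q ∈ 𝒟, m Q := by
    apply Finset.sum_fiberwise_of_maps_to
    intro Q hQ
    exact Finset.mem_filter.mpr ⟨hcone Q hQ, le_sup_right⟩
  rw [← h3]
  apply Finset.sum_eq_zero
  intro E hE
  rw [Finset.mem_filter] at hE
  exact key E hE.1 hE.2

/-- orbit counting: `#{x | x·b ∈ B} = #B · #Stab(b)` for a subset `B` of the orbit of `b` -/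
theorem count_lemma {X : Type*} (act : G → X → X) (h1 : ∀ x, act 1 x = x)
    (hmul : ∀ g h x, act (g * h) x = act g (act h x))
    (b : X) (B : Set X) (hB : ∀ y ∈ B, ∃ g, act g b = y) (N : Subgroup G)
    (hN : ∀ g, g ∈ N ↔ act g b = b) :
    Nat.card {x : G // act x b ∈ B} = Nat.card B * Nat.card N := by
  rw [← Nat.card_prod]
  let c : B → G := fun y => Classical.choose (hB y.1 y.2)
  have hc : ∀ y : B, act (c y) b = y.1 := fun y => Classical.choose_spec (hB y.1 y.2)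
  have hcn : ∀ (y : B) (n : N), act (c y * n.1) b = y.1 := by
    intro y n
    rw [hmul, (hN _).mp n.2, hc]
  let f : B × N → {x : G // act x b ∈ B} :=
    fun yn => ⟨c yn.1 * yn.2.1, by rw [hcn]; exact yn.1.2⟩
  have hf : Function.Bijective f := by
    constructor
    · rintro ⟨y, n⟩ ⟨y', n'⟩ h
      have h' : c y * n.1 = c y' * n'.1 := congrArg Subtype.val h
      have hy : y = y' := by
        apply Subtype.ext
        rw [← hcn y n, ← hcn y' n', h']
      subst hy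
      have hn : n = n' := Subtype.ext (mul_left_cancel h')
      rw [hn]
    · intro x
      have hx : (c ⟨act x.1 b, x.2⟩)⁻¹ * x.1 ∈ N := by
        rw [hN, hmul]
        calc act (c ⟨act x.1 b, x.2⟩)⁻¹ (act x.1 b)
            = act (c ⟨act x.1 b, x.2⟩)⁻¹ (act (c ⟨act x.1 b, x.2⟩) b) :=
              congrArg _ (hc ⟨act x.1 b, x.2⟩).symm
          _ = act ((c ⟨act x.1 b, x.2⟩)⁻¹ * c ⟨act x.1 b, x.2⟩) b := (hmul _ _ _).symm
          _ = b := by rw [inv_mul_cancel, h1]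
      refine ⟨(⟨act x.1 b, x.2⟩, ⟨_, hx⟩), ?_⟩
      apply Subtype.ext
      show c ⟨act x.1 b, x.2⟩ * ((c ⟨act x.1 b, x.2⟩)⁻¹ * x.1) = x.1
      rw [mul_inv_cancel_left]
  exact (Nat.card_congr (Equiv.ofBijective f hf)).symm

end Cfsg.Agent.Helper15.Subn
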