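import Mathlib

/-!
Pieces Y1 and Y2 for S4623 (helper28): a group generated by elements with `x ^ p = 1` has
`x ^ p` in the commutator subgroup for all `x`; transport along an isomorphism.
-/

namespace Cfsg.Agent.Helper15.SylG

theorem exp_of_gen {G : Type*} [Group G] (p : ℕ) (H : Subgroup G)
    (hgen : H ≤ Subgroup.closure {x | x ∈ H ∧ x ^ p = 1}) :
    ∀ x : ↥H, x ^ p ∈ commutator ↥H := by
  have himg : H.subtype '' {y : ↥H | y ^ p = 1} = {x : G | x ∈ H ∧ x ^ p = 1} := by
    ext g
    constructor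
    · rintro ⟨y, hy, rfl⟩
      refine ⟨y.2, ?_⟩
      have h0 : ((y ^ p : ↥H) : G) = ((1 : ↥H) : G) := congrArg Subtype.val hy
      simpa using h0
    · rintro ⟨hg, hgp⟩
      refine ⟨⟨g, hg⟩, ?_, rfl⟩
      show (⟨g, hg⟩ : ↥H) ^ p = 1
      apply Subtype.ext
      simpa using hgp
  have hT : ∀ x : ↥H, x ∈ Subgroup.closure {y : ↥H | y ^ p = 1} := by
    intro x
    have h1 : (x : G) ∈ Subgroup.closure {x : G | x ∈ H ∧ x ^ p = 1} := hgen x.2
    rw [← himg, ← MonoidHom.map_closure] at h1
    obtain ⟨y, hy, hyx⟩ := h1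
    have h2 : y = x := Subtype.ext hyx
    rw [← h2]
    exact hy
  have key : ∀ x : ↥H, (Abelianization.of x) ^ p = 1 := by
    intro x
    refine Subgroup.closure_induction
      (p := fun y _ => (Abelianization.of y) ^ p = 1) ?_ ?_ ?_ ?_ (hT x)
    · intro y hy
      have hy' : y ^ p = 1 := hy
      rw [← map_pow, hy', map_one]
    · rw [map_one, one_pow]
    · intro y z _ _ hy hz
      rw [map_mul, mul_pow, hy, hz, one_mul]
    · intro y _ hy
      rw [map_inv, inv_pow, hy, inv_one]
  intro x
  have h2 : Abelianization.of (x ^ p) = 1 := by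
    rw [map_pow]
    exact key x
  have h3 : x ^ p ∈ (Abelianization.of : ↥H →* Abelianization ↥H).ker := h2
  rw [Abelianization.ker_of] at h3
  exact h3

theorem exp_of_equiv {H K : Type*} [Group H] [Group K] (p : ℕ) (e : H ≃* K)
    (h : ∀ x : H, x ^ p ∈ commutator H) : ∀ y : K, y ^ p ∈ commutator K := by
  intro y
  have h1 : (commutator H).map e.toMonoidHom = commutator K := by
    rw [commutator_def, commutator_def, Subgroup.map_commutator,
      Subgroup.map_top_of_surjective e.toMonoidHom e.surjective]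
  have h2 : e.toMonoidHom ((e.symm y) ^ p) ∈ (commutator H).map e.toMonoidHom :=
    Subgroup.mem_map_of_mem _ (h (e.symm y))
  rw [h1] at h2
  have h3 : e.toMonoidHom ((e.symm y) ^ p) = y ^ p := by
    rw [map_pow]
    show (e (e.symm y)) ^ p = y ^ p
    rw [e.apply_symm_apply]
  rw [h3] at h2
  exact h2

end Cfsg.Agent.Helper15.SylG
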