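import Mathlib
import Cfsg.Agent.Helper15.SylG

/-!
Piece Y7 for S4623 (helper28): if a subgroup `H` of `S_n` of Sylow order is generated by
its elements with `x ^ p = 1`, then every Sylow `p`-subgroup `P` of `S_n` has `x ^ p ∈ P'`
for all `x ∈ P`.
-/

namespace Cfsg.Agent.Helper15.SylG7

theorem sym_part (p : ℕ) [Fact p.Prime] (n : ℕ) (H : Subgroup (Equiv.Perm (Fin n)))
    (hcard : Nat.card H = p ^ padicValNat p n.factorial)
    (hgen : H ≤ Subgroup.closure {x | x ∈ H ∧ x ^ p = 1})
    (P : Sylow p (Equiv.Perm (Fin n))) :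
    ∀ x : (P : Subgroup (Equiv.Perm (Fin n))),
      x ^ p ∈ commutator (P : Subgroup (Equiv.Perm (Fin n))) := by
  classical
  have hp : p.Prime := Fact.out
  have hScard : Nat.card (Equiv.Perm (Fin n)) = n.factorial := by
    rw [Nat.card_eq_fintype_card, Fintype.card_perm, Fintype.card_fin]
  have hcard' : Nat.card H = p ^ (Nat.card (Equiv.Perm (Fin n))).factorization p := by
    rw [hScard, Nat.factorization_def _ hp]
    exact hcard
  obtain ⟨g, hg⟩ := MulAction.exists_smul_eq (Equiv.Perm (Fin n)) (Sylow.ofCard H hcard') P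
  have hmemP : ∀ y : Equiv.Perm (Fin n),
      y ∈ (P : Subgroup (Equiv.Perm (Fin n))) ↔ g⁻¹ * y * g ∈ H := by
    intro y
    rw [← hg, Sylow.coe_subgroup_smul, Subgroup.mem_pointwise_smul_iff_inv_smul_mem,
      MulAut.smul_def, MulAut.conj_inv_apply, Sylow.coe_ofCard]
  have hGen : (P : Subgroup (Equiv.Perm (Fin n))) ≤
      Subgroup.closure {y | y ∈ (P : Subgroup (Equiv.Perm (Fin n))) ∧ y ^ p = 1} := by
    intro y hy
    have hx : g⁻¹ * y * g ∈ Subgroup.closure {x | x ∈ H ∧ x ^ p = 1} :=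
      hgen ((hmemP y).mp hy)
    have hind : ∀ x ∈ Subgroup.closure {x | x ∈ H ∧ x ^ p = 1},
        g * x * g⁻¹ ∈
          Subgroup.closure {y | y ∈ (P : Subgroup (Equiv.Perm (Fin n))) ∧ y ^ p = 1} := by
      intro x hx
      refine Subgroup.closure_induction
        (p := fun x _ => g * x * g⁻¹ ∈
          Subgroup.closure {y | y ∈ (P : Subgroup (Equiv.Perm (Fin n))) ∧ y ^ p = 1})
        ?_ ?_ ?_ ?_ hx
      · rintro x ⟨hxH, hxp⟩
        have hback : g⁻¹ * (g * x * g⁻¹) * g = x := by group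
        have hyP : g * x * g⁻¹ ∈ (P : Subgroup (Equiv.Perm (Fin n))) :=
          (hmemP _).mpr (by rw [hback]; exact hxH)
        have hyp : (g * x * g⁻¹) ^ p = 1 := by
          rw [conj_pow, hxp]
          simp
        exact Subgroup.subset_closure ⟨hyP, hyp⟩
      · rw [mul_one, mul_inv_cancel]
        exact one_mem _
      · intro x x' _ _ h1 h2
        have h3 : g * (x * x') * g⁻¹ = (g * x * g⁻¹) * (g * x' * g⁻¹) := by group
        rw [h3]
        exact mul_mem h1 h2
      · intro x _ h1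
        have h3 : g * x⁻¹ * g⁻¹ = (g * x * g⁻¹)⁻¹ := by group
        rw [h3]
        exact inv_mem h1
    have h3 := hind _ hx
    have hback : g * (g⁻¹ * y * g) * g⁻¹ = y := by group
    rw [hback] at h3
    exact h3
  exact Cfsg.Agent.Helper15.SylG.exp_of_gen p (P : Subgroup (Equiv.Perm (Fin n))) hGen

end Cfsg.Agent.Helper15.SylG7
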