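import Mathlib
import Cfsg.Agent.Helper15.SylG

/-!
Piece Y8 for S4623 (helper28): if a subgroup `H` of `S_n` of Sylow order has `H ⊓ A_n`
generated by its elements with `x ^ p = 1`, then every Sylow `p`-subgroup `Q` of `A_n` has
`x ^ p ∈ Q'` for all `x ∈ Q`.
-/

namespace Cfsg.Agent.Helper15.SylG8

theorem alt_part (p : ℕ) [Fact p.Prime] (n : ℕ) (H : Subgroup (Equiv.Perm (Fin n)))
    (hcard : Nat.card H = p ^ padicValNat p n.factorial)
    (hgen : H ⊓ alternatingGroup (Fin n) ≤
      Subgroup.closure {x | x ∈ H ⊓ alternatingGroup (Fin n) ∧ x ^ p = 1})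
    (Q : Sylow p (alternatingGroup (Fin n))) :
    ∀ x : (Q : Subgroup (alternatingGroup (Fin n))),
      x ^ p ∈ commutator (Q : Subgroup (alternatingGroup (Fin n))) := by
  classical
  have hp : p.Prime := Fact.out
  have hScard : Nat.card (Equiv.Perm (Fin n)) = n.factorial := by
    rw [Nat.card_eq_fintype_card, Fintype.card_perm, Fintype.card_fin]
  have hcard' : Nat.card H = p ^ (Nat.card (Equiv.Perm (Fin n))).factorization p := by
    rw [hScard, Nat.factorization_def _ hp]
    exact hcard
  obtain ⟨P, hQP⟩ := (Q.isPGroup'.map (alternatingGroup (Fin n)).subtype).exists_le_sylow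
  obtain ⟨g, hg⟩ := MulAction.exists_smul_eq (Equiv.Perm (Fin n)) (Sylow.ofCard H hcard') P
  have hmemP : ∀ y : Equiv.Perm (Fin n),
      y ∈ (P : Subgroup (Equiv.Perm (Fin n))) ↔ g⁻¹ * y * g ∈ H := by
    intro y
    rw [← hg, Sylow.coe_subgroup_smul, Subgroup.mem_pointwise_smul_iff_inv_smul_mem,
      MulAut.smul_def, MulAut.conj_inv_apply, Sylow.coe_ofCard]
  have hQ'mem : ∀ y : Equiv.Perm (Fin n),
      y ∈ (Q : Subgroup (alternatingGroup (Fin n))).map (alternatingGroup (Fin n)).subtype ↔
        (g⁻¹ * y * g ∈ H ∧ y ∈ alternatingGroup (Fin n)) := by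
    intro y
    constructor
    · intro hy
      refine ⟨(hmemP y).mp (hQP hy), ?_⟩
      obtain ⟨z, -, rfl⟩ := hy
      exact z.2
    · rintro ⟨hyH, hyA⟩
      have hR : IsPGroup p ↥((P : Subgroup (Equiv.Perm (Fin n))).subgroupOf
          (alternatingGroup (Fin n))) := P.isPGroup'.comap_subtype
      have hQR : (Q : Subgroup (alternatingGroup (Fin n))) ≤
          (P : Subgroup (Equiv.Perm (Fin n))).subgroupOf (alternatingGroup (Fin n)) := by
        intro z hz
        rw [Subgroup.mem_subgroupOf]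
        exact hQP (Subgroup.mem_map_of_mem _ hz)
      have hRQ := Q.is_maximal' hR hQR
      have hyR : (⟨y, hyA⟩ : alternatingGroup (Fin n)) ∈
          (P : Subgroup (Equiv.Perm (Fin n))).subgroupOf (alternatingGroup (Fin n)) := by
        rw [Subgroup.mem_subgroupOf]
        exact (hmemP y).mpr hyH
      rw [hRQ] at hyR
      exact ⟨⟨y, hyA⟩, hyR, rfl⟩
  have hGen : (Q : Subgroup (alternatingGroup (Fin n))) ≤
      Subgroup.closure {z : alternatingGroup (Fin n) |
        z ∈ (Q : Subgroup (alternatingGroup (Fin n))) ∧ z ^ p = 1} := by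
    intro z hz
    have hy : (z : Equiv.Perm (Fin n)) ∈
        (Q : Subgroup (alternatingGroup (Fin n))).map (alternatingGroup (Fin n)).subtype :=
      Subgroup.mem_map_of_mem _ hz
    obtain ⟨hxH, hyA⟩ := (hQ'mem _).mp hy
    have hxA : g⁻¹ * (z : Equiv.Perm (Fin n)) * g ∈ alternatingGroup (Fin n) := by
      have h0 := (inferInstance : (alternatingGroup (Fin n)).Normal).conj_mem _ hyA g⁻¹
      rwa [inv_inv] at h0
    have hx : g⁻¹ * (z : Equiv.Perm (Fin n)) * g ∈
        Subgroup.closure {x | x ∈ H ⊓ alternatingGroup (Fin n) ∧ x ^ p = 1} :=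
      hgen (Subgroup.mem_inf.mpr ⟨hxH, hxA⟩)
    have hind : ∀ x ∈ Subgroup.closure {x | x ∈ H ⊓ alternatingGroup (Fin n) ∧ x ^ p = 1},
        g * x * g⁻¹ ∈ (Subgroup.closure {z : alternatingGroup (Fin n) |
          z ∈ (Q : Subgroup (alternatingGroup (Fin n))) ∧ z ^ p = 1}).map
            (alternatingGroup (Fin n)).subtype := by
      intro x hx
      refine Subgroup.closure_induction
        (p := fun x _ => g * x * g⁻¹ ∈ (Subgroup.closure {z : alternatingGroup (Fin n) |
          z ∈ (Q : Subgroup (alternatingGroup (Fin n))) ∧ z ^ p = 1}).map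
            (alternatingGroup (Fin n)).subtype) ?_ ?_ ?_ ?_ hx
      · rintro x ⟨hxHA, hxp⟩
        have hxH' : x ∈ H := (Subgroup.mem_inf.mp hxHA).1
        have hxA' : x ∈ alternatingGroup (Fin n) := (Subgroup.mem_inf.mp hxHA).2
        have hyA' : g * x * g⁻¹ ∈ alternatingGroup (Fin n) :=
          (inferInstance : (alternatingGroup (Fin n)).Normal).conj_mem _ hxA' g
        have hback : g⁻¹ * (g * x * g⁻¹) * g = x := by group
        have hyQ : g * x * g⁻¹ ∈ (Q : Subgroup (alternatingGroup (Fin n))).map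
            (alternatingGroup (Fin n)).subtype :=
          (hQ'mem _).mpr ⟨by rw [hback]; exact hxH', hyA'⟩
        obtain ⟨z', hz'Q, hz'⟩ := hyQ
        have hz'p : z' ^ p = 1 := by
          apply Subtype.ext
          have h1 : ((z' ^ p : alternatingGroup (Fin n)) : Equiv.Perm (Fin n)) =
              (g * x * g⁻¹) ^ p := by
            rw [← hz']
            exact map_pow (alternatingGroup (Fin n)).subtype z' p
          rw [h1, conj_pow, hxp]
          simp
        exact ⟨z', Subgroup.subset_closure ⟨hz'Q, hz'p⟩, hz'⟩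
      · rw [mul_one, mul_inv_cancel]
        exact one_mem _
      · intro x x' _ _ h1 h2
        have h3 : g * (x * x') * g⁻¹ = (g * x * g⁻¹) * (g * x' * g⁻¹) := by group
        rw [h3]
        exact mul_mem h1 h2
      · intro x _ h1
        have h3 : g * x⁻¹ * g⁻¹ = (g * x * g⁻¹)⁻¹ := by group
        rw [h3]
        exact inv_mem h1
    have h3 := hind _ hx
    have hback : g * (g⁻¹ * (z : Equiv.Perm (Fin n)) * g) * g⁻¹ = (z : Equiv.Perm (Fin n)) := by
      group
    rw [hback] at h3
    obtain ⟨z'', hz'', hzz⟩ := h3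
    have h4 : z'' = z := Subtype.ext hzz
    rw [← h4]
    exact hz''
  exact Cfsg.Agent.Helper15.SylG.exp_of_gen p (Q : Subgroup (alternatingGroup (Fin n))) hGen

end Cfsg.Agent.Helper15.SylG8
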