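import Mathlib
import Cfsg.Prelude.Def_GeometricClasses

set_option autoImplicit false
open scoped MatrixGroups

namespace Cfsg.Agent.Helper15.U3B1

variable {F : Type*} [Field F] [Fintype F] {p : ℕ} [Fact p.Prime] [CharP F p]

theorem TT : (!![-1, 0, 0; 0, 0, -1; 0, -1, 0] : Matrix (Fin 3) (Fin 3) F) *
    !![-1, 0, 0; 0, 0, -1; 0, -1, 0] = 1 := by
  ext i j
  fin_cases i <;> fin_cases j <;> simp [Matrix.mul_apply, Fin.sum_univ_three]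

theorem TA (ω : F) (hω3 : ω ^ 3 = 1) :
    (!![-1, 0, 0; 0, 0, -1; 0, -1, 0] : Matrix (Fin 3) (Fin 3) F) * Matrix.diagonal ![1, ω ^ 2, ω]
      = Matrix.diagonal ![1, ω ^ 2, ω] ^ 2 * !![-1, 0, 0; 0, 0, -1; 0, -1, 0] := by
  have h4 : (ω ^ 2) ^ 2 = ω := by
    calc (ω ^ 2) ^ 2 = ω ^ 3 * ω := by ring
      _ = ω := by rw [hω3, one_mul]
  rw [Matrix.diagonal_pow]
  ext i j
  rw [Matrix.mul_diagonal, Matrix.diagonal_mul]
  fin_cases i <;> fin_cases j <;> simp [h4]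

theorem TC : (!![-1, 0, 0; 0, 0, -1; 0, -1, 0] : Matrix (Fin 3) (Fin 3) F) *
    !![0, 0, 1; 1, 0, 0; 0, 1, 0]
      = !![0, 0, 1; 1, 0, 0; 0, 1, 0] ^ 2 * !![-1, 0, 0; 0, 0, -1; 0, -1, 0] := by
  rw [pow_two]
  ext i j
  fin_cases i <;> fin_cases j <;> simp [Matrix.mul_apply, Fin.sum_univ_three]

theorem conj_mul (G Gi T0 X : Matrix (Fin 3) (Fin 3) F) (h : Gi * G = 1) :
    G * T0 * Gi * (G * X * Gi) * (G * T0 * Gi) = G * (T0 * X * T0) * Gi := by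
  calc G * T0 * Gi * (G * X * Gi) * (G * T0 * Gi)
      = G * T0 * (Gi * G) * X * (Gi * G) * T0 * Gi := by simp only [mul_assoc]
    _ = G * (T0 * X * T0) * Gi := by rw [h]; simp only [mul_one, mul_assoc]

theorem nz_T (R : Subgroup (GL (Fin 3) F)) (g : GL (Fin 3) F) (ω : F) (hω : ω ≠ 1) (hω3 : ω ^ 3 = 1) (hRd : ∀ y : GL (Fin 3) F, y ∈ R ↔ ∃ i j k : ℕ, (y : Matrix (Fin 3) (Fin 3) F) = (g : Matrix (Fin 3) (Fin 3) F) * (ω ^ i • (Matrix.diagonal ![1, ω ^ 2, ω] ^ j * !![0, 0, 1; 1, 0, 0; 0, 1, 0] ^ k)) * ((g⁻¹ : GL (Fin 3) F) : Matrix (Fin 3) (Fin 3) F)) (T : GL (Fin 3) F) (hT : (T : Matrix (Fin 3) (Fin 3) F) = !![-1, 0, 0; 0, 0, -1; 0, -1, 0]) : g * T * g⁻¹ ∈ Cfsg.Geo.subgroupNormalizer R := by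
  have hTT : T * T = 1 := by
    apply Units.ext
    rw [Units.val_mul, hT, Units.val_one]
    exact TT
  have hnn : (g * T * g⁻¹) * (g * T * g⁻¹) = 1 := by
    have h1 : (g * T * g⁻¹) * (g * T * g⁻¹) = g * (T * T) * g⁻¹ := by group
    rw [h1, hTT]; group
  have hinv : (g * T * g⁻¹)⁻¹ = g * T * g⁻¹ := inv_eq_of_mul_eq_one_right hnn
  have hgg : ((g⁻¹ : GL (Fin 3) F) : Matrix (Fin 3) (Fin 3) F) * (g : Matrix (Fin 3) (Fin 3) F) = 1 := by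
    rw [← Units.val_mul, inv_mul_cancel, Units.val_one]
  have hsub : ∀ y ∈ R, (g * T * g⁻¹) * y * (g * T * g⁻¹)⁻¹ ∈ R := by
    intro y hy
    obtain ⟨i, j, k, hy⟩ := (hRd y).1 hy
    rw [hRd]
    refine ⟨i, 2 * j, 2 * k, ?_⟩
    rw [hinv]
    simp only [Units.val_mul]
    rw [hy, hT, conj_mul _ _ _ _ hgg]
    have hA : SemiconjBy (!![-1, 0, 0; 0, 0, -1; 0, -1, 0] : Matrix (Fin 3) (Fin 3) F)
        (Matrix.diagonal ![1, ω ^ 2, ω]) (Matrix.diagonal ![1, ω ^ 2, ω] ^ 2) := TA ω hω3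
    have hC : SemiconjBy (!![-1, 0, 0; 0, 0, -1; 0, -1, 0] : Matrix (Fin 3) (Fin 3) F)
        (!![0, 0, 1; 1, 0, 0; 0, 1, 0]) (!![0, 0, 1; 1, 0, 0; 0, 1, 0] ^ 2) := TC
    have h1 := (hA.pow_right j).mul_right (hC.pow_right k)
    have key : (!![-1, 0, 0; 0, 0, -1; 0, -1, 0] : Matrix (Fin 3) (Fin 3) F) *
        (ω ^ i • (Matrix.diagonal ![1, ω ^ 2, ω] ^ j * !![0, 0, 1; 1, 0, 0; 0, 1, 0] ^ k)) *
        !![-1, 0, 0; 0, 0, -1; 0, -1, 0] =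
        ω ^ i • (Matrix.diagonal ![1, ω ^ 2, ω] ^ (2 * j) * !![0, 0, 1; 1, 0, 0; 0, 1, 0] ^ (2 * k)) := by
      rw [Matrix.mul_smul, Matrix.smul_mul, h1.eq, Matrix.mul_assoc, TT, Matrix.mul_one, ← pow_mul,
        ← pow_mul]
    rw [key]
  show g * T * g⁻¹ ∈ Subgroup.normalizer (R : Set (GL (Fin 3) F))
  rw [Subgroup.mem_normalizer_iff]
  intro h
  constructor
  · exact hsub h
  · intro hh
    have e : (g * T * g⁻¹) * ((g * T * g⁻¹) * h * (g * T * g⁻¹)⁻¹) * (g * T * g⁻¹)⁻¹ = h := by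
      rw [hinv]
      calc (g * T * g⁻¹) * ((g * T * g⁻¹) * h * (g * T * g⁻¹)) * (g * T * g⁻¹)
          = ((g * T * g⁻¹) * (g * T * g⁻¹)) * h * ((g * T * g⁻¹) * (g * T * g⁻¹)) := by
            simp only [mul_assoc]
        _ = h := by rw [hnn, one_mul, mul_one]
    rw [← e]
    exact hsub _ hh

end Cfsg.Agent.Helper15.U3B1
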